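import Cfsg.Agent.Lib.PMinLie.Ctx
import Cfsg.Agent.Lib.SmallSimple.Low
import Cfsg.Agent.Lib.SmallSimple.Order360

/-!
The alternating group of degree six has rank two for the prime two.
-/

set_option autoImplicit false

namespace Cfsg.Agent.PMinLie

/-- The even permutations preserving a relation. -/
def relStab (r : Fin 6 → Fin 6 → Bool) : Subgroup (alternatingGroup (Fin 6)) where
  carrier := {g | ∀ i j, r ((g : Equiv.Perm (Fin 6)) i) ((g : Equiv.Perm (Fin 6)) j) = r i j}
  one_mem' := fun i j => rfl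
  mul_mem' := fun {a b} ha hb i j => (ha _ _).trans (hb i j)
  inv_mem' := fun {a} ha i j => by
    have := ha (((a : Equiv.Perm (Fin 6))⁻¹) i) (((a : Equiv.Perm (Fin 6))⁻¹) j)
    simpa using this.symm

/-- The partition into a pair and its complement. -/
def relA (i j : Fin 6) : Bool := decide (i.val < 4) == decide (j.val < 4)

/-- The partition into three pairs. -/
def relB (i j : Fin 6) : Bool := i.val / 2 == j.val / 2

instance (r : Fin 6 → Fin 6 → Bool) : DecidablePred (· ∈ relStab r) := fun g =>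
  inferInstanceAs (Decidable (∀ i j, r ((g : Equiv.Perm (Fin 6)) i) ((g : Equiv.Perm (Fin 6)) j) = r i j))

set_option maxRecDepth 100000 in
set_option maxHeartbeats 0 in
theorem altSix_five : ∀ g : alternatingGroup (Fin 6), g ∉ relStab relA → g ∉ relStab relB →
    ∃ u : alternatingGroup (Fin 6), (u ∈ relStab relA ∧ u ∈ relStab relB) ∧
      (g * u) ^ 5 = 1 ∧ g * u ≠ 1 := by
  decide +kernel

set_option maxRecDepth 100000 in
set_option maxHeartbeats 0 in
theorem altSix_three : ∀ h : alternatingGroup (Fin 6), h ^ 5 = 1 → h ≠ 1 →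
    ∃ u : alternatingGroup (Fin 6), (u ∈ relStab relA ∧ u ∈ relStab relB) ∧
      ∃ v : alternatingGroup (Fin 6), (v ∈ relStab relA ∧ v ∈ relStab relB) ∧
        (h * u * (h * v)) ^ 3 = 1 ∧ h * u * (h * v) ≠ 1 := by
  decide +kernel

set_option maxRecDepth 100000 in
set_option maxHeartbeats 0 in
theorem altSix_eight :
    (Finset.univ.filter fun g : alternatingGroup (Fin 6) => g ∈ relStab relA ∧ g ∈ relStab relB).card = 8 := by
  decide +kernel

set_option maxRecDepth 100000 in
set_option maxHeartbeats 0 in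
theorem altSix_ne : (∃ g : alternatingGroup (Fin 6), g ∈ relStab relA ∧ g ∉ relStab relB) ∧
    ∃ g : alternatingGroup (Fin 6), g ∈ relStab relB ∧ g ∉ relStab relA := by
  decide +kernel

theorem twoType_alt6 [Fact (Nat.Prime 2)] : TwoType 2 (alternatingGroup (Fin 6)) := by
  classical
  set G := alternatingGroup (Fin 6)
  have := alternatingGroup.isSimpleGroup (α := Fin 6) (by simp)
  have hc : Nat.card G = 360 := by
    rw [nat_card_alternatingGroup, Nat.card_eq_fintype_card, Fintype.card_fin]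
    rfl
  have hgen := altSix_five
  have hgen' := altSix_three
  have h8 := altSix_eight
  obtain ⟨⟨gP, hgP, hgP'⟩, gQ, hgQ, hgQ'⟩ := altSix_ne
  set P := relStab relA
  set Q := relStab relB
  have hPQ : Nat.card (P ⊓ Q : Subgroup G) = 2 ^ 3 := by
    rw [Nat.card_eq_fintype_card, Fintype.card_subtype]
    norm_num
    rw [← h8]
  have hidx : ¬ 2 ∣ (P ⊓ Q : Subgroup G).index := by
    have h := (P ⊓ Q : Subgroup G).card_mul_index
    rw [hPQ, hc] at h
    omega
  set U₀ := (IsPGroup.of_card (n := 3) hPQ).toSylow hidx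
  refine twoType_of_sylow U₀ fun A M₀ hctx => ?_
  have hU : ((U₀ : Sylow 2 G) : Subgroup G) = P ⊓ Q := rfl
  have hPt : P ≠ ⊤ := fun e => hgQ' (e ▸ Subgroup.mem_top _)
  have hQt : Q ≠ ⊤ := fun e => hgP' (e ▸ Subgroup.mem_top _)
  have hcover : ∀ Y : Subgroup G, (U₀ : Subgroup G) ≤ Y → Y ≠ ⊤ → Y ≤ P ∨ Y ≤ Q := by
    intro Y hY hYt
    rw [hU] at hY
    have key : ∀ g ∈ Y, g ∈ P ∨ g ∈ Q := by
      intro g hg
      by_contra hno
      push Not at hno
      obtain ⟨u, hu, hu5, hu1⟩ := hgen g hno.1 hno.2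
      obtain ⟨v, hv, w, hw, h3, h31⟩ := hgen' _ hu5 hu1
      have hh : g * u ∈ Y := mul_mem hg (hY hu)
      have h3Y : g * u * v * (g * u * w) ∈ Y :=
        mul_mem (mul_mem hh (hY hv)) (mul_mem hh (hY hw))
      have d5 : 5 ∣ Nat.card Y := by
        have : Fact (Nat.Prime 5) := ⟨by norm_num⟩
        rw [← orderOf_eq_prime (p := 5) hu5 hu1, ← Subgroup.orderOf_mk (a := g * u) hh]
        exact orderOf_dvd_natCard _
      have d3 : 3 ∣ Nat.card Y := by
        have : Fact (Nat.Prime 3) := ⟨Nat.prime_three⟩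
        rw [← orderOf_eq_prime (p := 3) h3 h31, ← Subgroup.orderOf_mk (a := g * u * v * (g * u * w)) h3Y]
        exact orderOf_dvd_natCard _
      have d8 : 8 ∣ Nat.card Y := by
        have := Subgroup.card_dvd_of_le hY
        rwa [hPQ] at this
      have h120 : 120 ∣ Nat.card Y :=
        (show Nat.Coprime 24 5 by norm_num).mul_dvd_of_dvd_of_dvd
          ((show Nat.Coprime 8 3 by norm_num).mul_dvd_of_dvd_of_dvd d8 d3) d5
      obtain ⟨c, hc'⟩ := h120
      have hci := Y.card_mul_index
      rw [hc', hc, mul_assoc] at hci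
      have h3 : c * Y.index = 3 := by omega
      have hfac := SmallSimple.card_dvd_factorial hYt
      rw [hc] at hfac
      have hi : Y.index ∣ 3 := Dvd.intro_left c h3
      have := Nat.le_of_dvd (by norm_num) hi
      generalize Y.index = i at hfac this
      interval_cases i <;> norm_num [Nat.factorial] at hfac
    by_contra hno
    push Not at hno
    obtain ⟨x, hxY, hxP⟩ := SetLike.not_le_iff_exists.1 hno.1
    obtain ⟨y, hyY, hyQ⟩ := SetLike.not_le_iff_exists.1 hno.2
    have hxQ := (key x hxY).resolve_left hxP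
    have hyP := (key y hyY).resolve_right hyQ
    rcases key _ (mul_mem hxY hyY) with h | h
    · exact hxP ((P.mul_mem_cancel_right hyP).1 h)
    · exact hyQ ((Q.mul_mem_cancel_left hxQ).1 h)
  obtain ⟨h1, h2, a, ha, hPa, -⟩ := hctx.rankTwo (hU.le.trans inf_le_left) (hU.le.trans inf_le_right) hPt hQt
    (fun h => hgP' (h hgP)) (fun h => hgQ' (h hgQ)) hcover (hU.ge.trans Subgroup.le_normalizer)
  exact ⟨h1, h2, outer_of_move ha (hU.le.trans inf_le_left)
    fun e => hgP' (show gP ∈ Q from hPa ▸ e.symm ▸ hgP)⟩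

end Cfsg.Agent.PMinLie
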