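import Cfsg.Agent.Lib.PMinLie.Ctx
import Cfsg.Agent.Lib.BNPair.Basic
import Mathlib.Algebra.Group.Action.Pointwise.Set.Basic
import Mathlib.Algebra.Group.Subgroup.Pointwise

/-!
Groups with a (B,N)-pair with `B` the normaliser of `U`: the automorphisms permute the distinguished
generators transitively, respecting commutation, and only `B` is invariant.
-/

set_option autoImplicit false
set_option linter.unusedSectionVars false

namespace Cfsg.Agent.PMinLie

open Cfsg Cfsg.Agent.BN
open scoped Pointwise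

variable {K : Type*} [Group K] (P : BNPair K)

/-- `a` carries the rank one parabolic subgroup of `s` to that of `t`. -/
def Maps (a : MulAut K) (s t : K) : Prop :=
  (P.parabolic {s}).map a.toMonoidHom = P.parabolic {t}

theorem word_singleton_cases (s : P.S) : ∀ l : List P.S, (∀ x ∈ l, (x : K) = (s : K)) →
    word P l = 1 ∨ word P l = refl P s := by
  intro l hl
  induction l with
  | nil => exact Or.inl (by simp)
  | cons x l ih =>
    obtain rfl : x = s := Subtype.ext (hl x List.mem_cons_self)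
    rw [word_cons]
    rcases ih (fun y hy => hl y (List.mem_cons_of_mem _ hy)) with h | h <;> rw [h]
    · exact Or.inr (mul_one _)
    · exact Or.inl (refl_mul_self P _)

theorem cell_of_mem_parabolic_singleton (s : P.S) {g : K} (hg : g ∈ P.parabolic {(s : K)})
    (hB : g ∉ P.B) : g ∈ cell P (refl P s) := by
  obtain ⟨l, hl, hgl⟩ := exists_word_of_mem_parabolic P (Set.singleton_subset_iff.2 s.2) hg
  rcases word_singleton_cases P s l hl with h | h <;> rw [h] at hgl
  · exact absurd ((mem_cell_one P).1 hgl) hB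
  · exact hgl

theorem mem_parabolic_singleton_of_cell (s : P.S) {g : K} (hg : g ∈ cell P (refl P s)) :
    g ∈ P.parabolic {(s : K)} :=
  cell_subset_parabolic P (l := [s]) (by simp) (by simpa using hg)

theorem parabolic_empty : P.parabolic ∅ = P.B := by
  rw [BNPair.parabolic, Subgroup.closure_empty, sup_bot_eq]

theorem parabolic_singleton_injective {s t : K} (hs : s ∈ P.S) (ht : t ∈ P.S)
    (h : P.parabolic {s} = P.parabolic {t}) : s = t :=
  (mem_parabolic_iff_of_mem_S P (Set.singleton_subset_iff.2 ht) hs).1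
    (h ▸ subset_parabolic P {s} (Set.mem_singleton s))

variable {P} {p : ℕ} {U : Subgroup K} {A : Subgroup (MulAut K)} {M₀ : Subgroup K}

/-- What is used: the situation, and `B` the normaliser of `U`. -/
structure BNCtx (P : BNPair K) (p : ℕ) (U : Subgroup K) (A : Subgroup (MulAut K)) (M₀ : Subgroup K) :
    Prop where
  ctx : Ctx p U A M₀
  norm : Subgroup.normalizer (U : Set K) = P.B

namespace BNCtx

variable [Finite K] (h : BNCtx P p U A M₀)
include h

theorem le_B : U ≤ P.B := h.norm ▸ Subgroup.le_normalizer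

theorem map_B {a : MulAut K} (ha : a ∈ A) : P.B.map a.toMonoidHom = P.B := by
  rw [← h.norm, Subgroup.map_equiv_normalizer_eq, h.ctx.map_U ha]

theorem exists_maps {a : MulAut K} (ha : a ∈ A) {s : K} (hs : s ∈ P.S) :
    ∃ t ∈ P.S, Maps P a s t := by
  have himg : ∀ {b : MulAut K}, b ∈ A → ∀ {r : K}, r ∈ P.S →
      ∃ t ∈ P.S, t ∈ (P.parabolic {r}).map b.toMonoidHom := by
    intro b hb r hr
    have hB : P.B ≤ (P.parabolic {r}).map b.toMonoidHom :=
      (h.map_B hb).ge.trans (Subgroup.map_mono (B_le_parabolic P _))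
    by_contra hno
    push Not at hno
    have e := eq_parabolic_inter P hB
    rw [Set.disjoint_iff_inter_eq_empty.1 (Set.disjoint_left.2 fun x hx hx' => hno x hx hx'),
      parabolic_empty] at e
    have h1 : b r ∈ P.B := e ▸ ⟨r, subset_parabolic P {r} (Set.mem_singleton r), rfl⟩
    rw [← h.map_B hb] at h1
    obtain ⟨y, hy, e'⟩ := h1
    obtain rfl : y = r := b.injective e'
    exact not_mem_B P hr hy
  obtain ⟨t, ht, hts⟩ := himg ha hs
  have h1 : P.parabolic {t} ≤ (P.parabolic {s}).map a.toMonoidHom :=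
    sup_le ((h.map_B ha).ge.trans (Subgroup.map_mono (B_le_parabolic P _)))
      ((Subgroup.closure_le _).2 (Set.singleton_subset_iff.2 hts))
  refine ⟨t, ht, le_antisymm ?_ h1⟩
  obtain ⟨r, hr, hrt⟩ := himg (inv_mem ha) ht
  obtain ⟨y, hy, e⟩ := hrt
  obtain ⟨z, hz, rfl⟩ := h1 hy
  have hrs : r = s := by
    refine (mem_parabolic_iff_of_mem_S P (Set.singleton_subset_iff.2 hs) hr).1 ?_
    rw [← e]
    simpa using hz
  subst hrs
  rw [BNPair.parabolic, Subgroup.map_sup, h.map_B ha, MonoidHom.map_closure, Set.image_singleton]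
  refine sup_le (B_le_parabolic P _) ((Subgroup.closure_le _).2 (Set.singleton_subset_iff.2 ?_))
  rw [← e]
  simpa using hy

theorem map_parabolic_le {a : MulAut K} (ha : a ∈ A) {C : Set K} (hC : C ⊆ P.S)
    (hinv : ∀ s ∈ C, ∀ t ∈ P.S, Maps P a s t → t ∈ C) :
    (P.parabolic C).map a.toMonoidHom ≤ P.parabolic C := by
  rw [BNPair.parabolic, Subgroup.map_sup, h.map_B ha, MonoidHom.map_closure]
  refine sup_le le_sup_left ((Subgroup.closure_le _).2 ?_)
  rintro _ ⟨s, hs, rfl⟩
  obtain ⟨t, ht, hst⟩ := h.exists_maps ha (hC hs)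
  have h1 : a s ∈ P.parabolic {t} := hst ▸ ⟨s, subset_parabolic P {s} (Set.mem_singleton s), rfl⟩
  refine (sup_le (B_le_parabolic P C) ?_ : P.parabolic {t} ≤ P.parabolic C) h1
  exact Subgroup.closure_le _ |>.2 (Set.singleton_subset_iff.2
    (subset_parabolic P C (hinv s hs t ht hst)))

theorem B_le (hS : P.S.Nonempty) : P.B ≤ M₀ := by
  obtain ⟨s, hs⟩ := hS
  exact h.ctx.max P.B h.le_B (fun e => not_mem_B P hs (e ▸ Subgroup.mem_top s))
    fun a ha y hy => (h.map_B ha).le ⟨y, hy, rfl⟩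

theorem invariant_subset {C : Set K} (hC : C ⊆ P.S) (hne : ¬ P.S ⊆ C)
    (hinv : ∀ a ∈ A, ∀ s ∈ C, ∀ t ∈ P.S, Maps P a s t → t ∈ C) : C ⊆ M₀ := by
  have hle : P.parabolic C ≤ M₀ := by
    refine h.ctx.max _ (h.le_B.trans (B_le_parabolic P C)) (fun e => hne fun s hs => ?_)
      fun a ha y hy => h.map_parabolic_le ha hC (hinv a ha) ⟨y, hy, rfl⟩
    exact (mem_parabolic_iff_of_mem_S P hC hs).1 (e ▸ Subgroup.mem_top s)
  exact fun s hs => hle (subset_parabolic P C hs)

theorem maps_inv {a : MulAut K} {s t : K} (hst : Maps P a s t) : Maps P a⁻¹ t s := by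
  rw [Maps, ← hst, Subgroup.map_map]
  convert Subgroup.map_id _ using 2
  ext x
  simp

theorem maps_mul {a b : MulAut K} {r s t : K} (h1 : Maps P b r s) (h2 : Maps P a s t) :
    Maps P (a * b) r t := by
  rw [Maps, ← h2, ← h1, Subgroup.map_map]
  rfl

theorem transitive {s t : K} (hs : s ∈ P.S) (ht : t ∈ P.S) : ∃ a ∈ A, Maps P a s t := by
  by_contra hno
  set C : Set K := {r | r ∈ P.S ∧ ∃ a ∈ A, Maps P a s r} with hC
  have hne : P.S.Nonempty := ⟨s, hs⟩
  have h1 : C ⊆ M₀ := h.invariant_subset (fun r hr => hr.1) (fun hall => hno (hall ht).2) <| by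
    rintro a ha r ⟨-, b, hb, hbr⟩ r' hr' hrr'
    exact ⟨hr', a * b, mul_mem ha hb, h.maps_mul hbr hrr'⟩
  have hsC : s ∈ C := ⟨hs, 1, one_mem _, Subgroup.map_id _⟩
  have h2 : P.S \ C ⊆ M₀ := h.invariant_subset Set.diff_subset (fun hall => (hall hs).2 hsC) <| by
    rintro a ha r ⟨hr, hrC⟩ r' hr' hrr'
    refine ⟨hr', ?_⟩
    rintro ⟨-, b, hb, hbr⟩
    exact hrC ⟨hr, a⁻¹ * b, mul_mem (inv_mem ha) hb, h.maps_mul hbr (h.maps_inv hrr')⟩
  refine h.ctx.ne_top (top_le_iff.1 ?_)
  rw [← parabolic_S P]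
  refine sup_le (h.B_le hne) ((Subgroup.closure_le _).2 fun r hr => ?_)
  by_cases hrC : r ∈ C
  · exact h1 hrC
  · exact h2 ⟨hr, hrC⟩

theorem le_normalizer (hS : P.S.Nonempty) : M₀ ≤ Subgroup.normalizer (U : Set K) := by
  rw [h.norm]
  have e := eq_parabolic_inter P (h.B_le hS)
  have hemp : ∀ s ∈ P.S, s ∉ M₀ := by
    intro s hs hsM
    refine h.ctx.ne_top (top_le_iff.1 ?_)
    rw [← parabolic_S P]
    refine sup_le (h.B_le hS) ((Subgroup.closure_le _).2 fun t ht => ?_)
    obtain ⟨a, ha, hst⟩ := h.transitive hs ht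
    have h1 : P.parabolic {s} ≤ M₀ :=
      sup_le (h.B_le hS) ((Subgroup.closure_le _).2 (Set.singleton_subset_iff.2 hsM))
    obtain ⟨y, hy, e'⟩ := (hst.ge (subset_parabolic P {t} (Set.mem_singleton t)) :
      t ∈ (P.parabolic {s}).map a.toMonoidHom)
    exact e' ▸ h.ctx.inv a ha y (h1 hy)
  rw [e, Set.disjoint_iff_inter_eq_empty.1 (Set.disjoint_left.2 hemp), parabolic_empty]

theorem card_eq_pow [Fact p.Prime] {s : K} (hs : s ∈ P.S) : ∃ k : ℕ, Nat.card P.S = p ^ k := by
  obtain ⟨k, hk⟩ := h.ctx.isPGroupA.card_orbit (P.parabolic {s})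
  refine ⟨k, hk ▸ Nat.card_congr (Equiv.ofBijective
    (fun t : P.S => (⟨P.parabolic {(t : K)}, ?_⟩ : MulAction.orbit A (P.parabolic {s}))) ⟨?_, ?_⟩)⟩
  · obtain ⟨a, ha, hst⟩ := h.transitive hs t.2
    exact ⟨⟨a, ha⟩, hst⟩
  · intro t t' e
    exact Subtype.ext (parabolic_singleton_injective P t.2 t'.2 (congrArg Subtype.val e))
  · rintro ⟨Q, a, rfl⟩
    obtain ⟨t, ht, hst⟩ := h.exists_maps a.2 hs
    exact ⟨⟨t, ht⟩, Subtype.ext hst.symm⟩

theorem eq_two_outer [Fact p.Prime] (hcard : Nat.card P.S = 2) : p = 2 ∧ Outer U A := by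
  have : Nonempty P.S := (Nat.card_pos_iff.1 (by omega)).1
  obtain ⟨⟨s, hs⟩⟩ := this
  obtain ⟨k, hk⟩ := h.card_eq_pow hs
  refine ⟨?_, ?_⟩
  · rw [hcard] at hk
    rcases k with _ | k
    · simp at hk
    · exact (Nat.prime_dvd_prime_iff_eq Fact.out Nat.prime_two).1 (hk ▸ dvd_pow_self p k.succ_ne_zero)
  · obtain ⟨t, ht, hts⟩ : ∃ t ∈ P.S, t ≠ s := by
      by_contra hno
      push Not at hno
      have : Subsingleton P.S := ⟨fun a b => Subtype.ext ((hno a a.2).trans (hno b b.2).symm)⟩
      have := Finite.card_le_one_iff_subsingleton.2 this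
      omega
    obtain ⟨a, ha, hst⟩ := h.transitive hs ht
    exact outer_of_move ha (h.le_B.trans (B_le_parabolic P _))
      fun e => hts (parabolic_singleton_injective P ht hs (hst.symm.trans e))

theorem mem_cell_of_maps {a : MulAut K} (ha : a ∈ A) {s t : P.S} (hst : Maps P a s t) :
    a (s : K) ∈ cell P (refl P t) := by
  refine cell_of_mem_parabolic_singleton P t
    (hst ▸ ⟨(s : K), subset_parabolic P _ (Set.mem_singleton _), rfl⟩) fun hB => ?_
  rw [← h.map_B ha] at hB
  obtain ⟨y, hy, e⟩ := hB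
  obtain rfl : y = (s : K) := a.injective e
  exact not_mem_B P s.2 hy

theorem map_cell {a : MulAut K} (ha : a ∈ A) {s t : P.S} (hst : Maps P a s t) {x : K}
    (hx : x ∈ cell P (refl P s)) : a x ∈ cell P (refl P t) := by
  obtain ⟨b, hb, c, hc, rfl⟩ := exists_of_mem_cell P hx (coe_mem_cell_refl P s)
  rw [map_mul, map_mul]
  exact mul_mem_cell P (h.mem_cell_of_maps ha hst) ((h.map_B ha).le ⟨b, hb, rfl⟩)
    ((h.map_B ha).le ⟨c, hc, rfl⟩)

theorem maps_injective {a : MulAut K} {s s' t : P.S} (h1 : Maps P a s t) (h2 : Maps P a s' t) :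
    s = s' :=
  Subtype.ext (parabolic_singleton_injective P s.2 s'.2
    (Subgroup.map_injective (f := a.toMonoidHom) a.injective (h1.trans h2.symm)))

/-- The commutation of two reflections is preserved. -/
theorem commute_of_maps {a : MulAut K} (ha : a ∈ A) {s s' t t' : P.S} (h1 : Maps P a s t)
    (h2 : Maps P a s' t') (hc : Commute (refl P s) (refl P s')) : Commute (refl P t) (refl P t') := by
  by_cases htt : t = t'
  · rw [htt]
  have hne : s ≠ s' := by
    rintro rfl
    exact htt (Subtype.ext (parabolic_singleton_injective P t.2 t'.2 (h1.symm.trans h2)))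
  have hlen : ∀ {u v : P.S}, u ≠ v → len P (refl P v) ≤ len P (refl P u * refl P v) := by
    intro u v huv
    rw [len_refl]
    refine Nat.one_le_iff_ne_zero.2 fun e => huv (refl_injective P ?_)
    rw [len_eq_zero, mul_eq_one_iff_eq_inv, refl_inv] at e
    exact e
  have e1 : (s : K) * s' ∈ cell P (refl P s * refl P s') :=
    mul_mem_of_len_le P (hlen hne) (coe_mem_cell_refl P s) (coe_mem_cell_refl P s')
  have e2 : (s' : K) * s ∈ cell P (refl P s * refl P s') := by
    rw [hc.eq]
    exact mul_mem_of_len_le P (hlen (Ne.symm hne)) (coe_mem_cell_refl P s') (coe_mem_cell_refl P s)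
  obtain ⟨b, hb, c, hc', e⟩ := exists_of_mem_cell P e1 e2
  have f1 : a ((s : K) * s') ∈ cell P (refl P t * refl P t') := by
    rw [map_mul]
    exact mul_mem_of_len_le P (hlen htt) (h.mem_cell_of_maps ha h1) (h.mem_cell_of_maps ha h2)
  have f2 : a ((s : K) * s') ∈ cell P (refl P t' * refl P t) := by
    rw [e, map_mul, map_mul, map_mul]
    exact mul_mem_cell P
      (mul_mem_of_len_le P (hlen (Ne.symm htt)) (h.mem_cell_of_maps ha h2) (h.mem_cell_of_maps ha h1))
      ((h.map_B ha).le ⟨b, hb, rfl⟩) ((h.map_B ha).le ⟨c, hc', rfl⟩)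
  exact cell_disjoint P f1 f2

/-- All generators commute with equally many others. -/
theorem card_commute_eq (s t : P.S) :
    Nat.card {r : P.S // Commute (refl P s) (refl P r)} ≤
      Nat.card {r : P.S // Commute (refl P t) (refl P r)} := by
  obtain ⟨a, ha, hst⟩ := h.transitive s.2 t.2
  have : ∀ r : {r : P.S // Commute (refl P s) (refl P r)},
      ∃ u : {r : P.S // Commute (refl P t) (refl P r)}, Maps P a (r.1 : K) (u.1 : K) := fun r => by
    obtain ⟨u, hu, hru⟩ := h.exists_maps ha r.1.2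
    exact ⟨⟨⟨u, hu⟩, h.commute_of_maps ha (t := t) (t' := ⟨u, hu⟩) hst hru r.2⟩, hru⟩
  choose f hf using this
  have : Finite P.S := Subtype.finite
  refine Nat.card_le_card_of_injective f fun r r' e => Subtype.ext (h.maps_injective (hf r) ?_)
  rw [e]
  exact hf r'

/-- All rank one cells have equally many elements. -/
theorem card_cell_eq (s t : P.S) : Nat.card (cell P (refl P s)) = Nat.card (cell P (refl P t)) := by
  have key : ∀ u v : P.S, Nat.card (cell P (refl P u)) ≤ Nat.card (cell P (refl P v)) := by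
    intro u v
    obtain ⟨a, ha, huv⟩ := h.transitive u.2 v.2
    exact Nat.card_le_card_of_injective (fun x => ⟨a x.1, h.map_cell ha huv x.2⟩)
      fun x y e => Subtype.ext (a.injective (congrArg Subtype.val e))
  exact le_antisymm (key s t) (key t s)

end BNCtx

end Cfsg.Agent.PMinLie
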