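import Cfsg.Agent.Lib.PMinLie.Ctx
import Cfsg.Agent.Lib.SylowFix.Point

/-!
Classical groups with a totally singular line: semilinear automorphisms fixing a Sylow subgroup fix its
point and its line, so two maximal parabolic subgroups are invariant.
-/

set_option autoImplicit false
set_option linter.unusedSectionVars false

namespace Cfsg.Agent.PMinLie

open ClassicalSimple SylowFix

variable {F V K : Type*} [Field F] [AddCommGroup V] [Module F V] [Group K] [DistribMulAction K V]
  [SMulCommClass K F V]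

variable (K) in
/-- The setwise stabiliser of a subspace. -/
def setStab (W : Submodule F V) : Subgroup K where
  carrier := {k | (∀ x ∈ W, k • x ∈ W) ∧ ∀ x ∈ W, k⁻¹ • x ∈ W}
  one_mem' := ⟨fun x hx => by rwa [one_smul], fun x hx => by rwa [inv_one, one_smul]⟩
  mul_mem' := by
    rintro g k ⟨hg, hg'⟩ ⟨hk, hk'⟩
    exact ⟨fun x hx => by rw [mul_smul]; exact hg _ (hk x hx),
      fun x hx => by rw [mul_inv_rev, mul_smul]; exact hk' _ (hg' x hx)⟩
  inv_mem' := by
    rintro g ⟨hg, hg'⟩
    exact ⟨hg', by rwa [inv_inv]⟩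

theorem mem_setStab [Finite V] {W : Submodule F V} {k : K} (h : ∀ x ∈ W, k • x ∈ W) :
    k ∈ setStab K W := by
  refine ⟨h, fun x hx => ?_⟩
  have hinj : Function.Injective (fun y : W => (⟨k • (y : V), h y y.2⟩ : W)) := fun a b e =>
    Subtype.ext (MulAction.injective k (congrArg Subtype.val e))
  obtain ⟨y, hy⟩ := Finite.injective_iff_surjective.1 hinj ⟨x, hx⟩
  have e : k • (y : V) = x := congrArg Subtype.val hy
  rw [← e, inv_smul_smul]
  exact y.2

theorem mem_setStab_span [Finite V] {T : Set V} {k : K}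
    (h : ∀ x ∈ T, k • x ∈ Submodule.span F T) : k ∈ setStab K (Submodule.span F T) := by
  refine mem_setStab fun x hx => ?_
  induction hx using Submodule.span_induction with
  | mem x hx => exact h x hx
  | zero => simp
  | add x y _ _ hx hy => rw [smul_add]; exact add_mem hx hy
  | smul c x _ hx => rw [smul_comm]; exact Submodule.smul_mem _ c hx

theorem mem_line {e x : V} : x ∈ Submodule.span F {e} ↔ SameLine F e x :=
  Submodule.mem_span_singleton

variable (K) in
/-- What is needed: the point hypotheses everywhere and three facts about totally singular lines. -/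
structure PolarHyp (S : V → Prop) (φ : V → Module.Dual F V) : Prop where
  point : ∀ z, S z → PointHyp K S φ z
  lift : ∀ {e f y}, S e → S f → φ e f = 0 → φ e y = 0 → φ f y = 1 → ∃ a : F, S (y + a • f)
  move : ∀ {e f x}, S e → S f → S x → φ e f = 0 → ¬ SameLine F e f → φ e x = 0 → φ f x = 1 →
    ∃ y, S y ∧ φ e y = 0 ∧ φ f y = 1 ∧ ∀ a : F, y ≠ x + a • e
  dual : ∀ {e f x}, S e → S f → φ e f = 0 → (∀ w, φ e w = 0 → φ f w = 0 → φ x w = 0) →
    x ∈ Submodule.span F {e, f}

variable (K F) in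
/-- The maps inducing an automorphism. -/
def Semi (S : V → Prop) (φ : V → Module.Dual F V) (a : MulAut (K ⧸ Subgroup.center K)) : Prop :=
  ∃ (Ψ : V →+ V) (σ : F → F), Function.Injective Ψ ∧ (∀ (c : F) (x : V), Ψ (c • x) = σ c • Ψ x) ∧
    (∀ x, S x → S (Ψ x)) ∧ (∀ x y, φ x y = 0 → φ (Ψ x) (Ψ y) = 0) ∧
    ∀ k : K, ∃ k' : K, a (QuotientGroup.mk k) = QuotientGroup.mk k' ∧ ∀ x, k' • Ψ x = Ψ (k • x)

variable {S : V → Prop} {φ : V → Module.Dual F V}

section point

variable {z : V} (P : PointHyp K S φ z)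
include P

theorem rad_le_setStab [Finite V] : rad K φ z ≤ setStab K (Submodule.span F {z}) := fun t ht =>
  mem_setStab_span fun x hx => by
    rw [Set.mem_singleton_iff.1 hx, ht.1]
    exact Submodule.mem_span_singleton_self z

theorem center_le_setStab (W : Submodule F V) : Subgroup.center K ≤ setStab K W := by
  intro k hk
  obtain ⟨a, ha⟩ := (P.center k).1 hk
  obtain ⟨b, hb⟩ := (P.center k⁻¹).1 (inv_mem hk)
  exact ⟨fun x hx => by rw [ha]; exact W.smul_mem a hx, fun x hx => by rw [hb]; exact W.smul_mem b hx⟩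

theorem rad_isPGroup (p : ℕ) [Fact p.Prime] [CharP F p] : IsPGroup p (rad K φ z) := fun t =>
  ⟨2, Subtype.ext (rad_pow P p t.2)⟩

theorem eq_of_sameLine_fix [Finite V] {x : V} (hx : S x)
    (h : ∀ t ∈ rad K φ z, t • x ∈ Submodule.span F {x}) : x ∈ Submodule.span F {z} :=
  mem_line.2 (sameLine_of_rad_fix P hx fun t ht => mem_line.1 (h t ht))

theorem not_dvd_index_point [Finite K] [Finite V] (p : ℕ) [Fact p.Prime] [CharP F p] :
    ¬ p ∣ (setStab K (Submodule.span F {z})).index := by
  refine not_dvd_index_parabolic (rad_le_setStab P) (rad_isPGroup P p) fun g hg => ?_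
  have h1 : g • z ∈ Submodule.span F {z} := by
    refine eq_of_sameLine_fix P (P.geom.map_S g P.S_z) fun t ht => ?_
    obtain ⟨a, ha⟩ := mem_line.1 ((hg t ht).1 z (Submodule.mem_span_singleton_self z))
    refine mem_line.2 ⟨a, ?_⟩
    rw [← smul_comm g a, ha, mul_smul, mul_smul, smul_inv_smul]
  exact mem_setStab_span fun x hx => by rw [Set.mem_singleton_iff.1 hx]; exact h1

/-- An overgroup of the stabiliser of a point moving it is the whole group. -/
theorem eq_top_of_move [Finite V] {Z : Subgroup K} (hZ : setStab K (Submodule.span F {z}) ≤ Z) {r : K}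
    (hr : r ∈ Z) (hrz : r • z ∉ Submodule.span F {z}) : Z = ⊤ := by
  set L := setStab K (Submodule.span F {z}) with hL
  have hz0 := z_ne P
  have hsame : ∀ {v : V} {g k : K}, S v → SameLine F v (g • z) → SameLine F v (k • z) → g⁻¹ * k ∈ L := by
    intro v g k hv hg hk
    obtain ⟨b, hb⟩ := sameLine_symm (P.geom.ne_zero (P.geom.map_S g P.S_z)) hg
    obtain ⟨c, hc⟩ := hk
    refine mem_setStab_span fun x hx => ?_
    rw [Set.mem_singleton_iff.1 hx]
    exact mem_line.2 ⟨c * b, by
      rw [mul_smul, mul_smul, eq_inv_smul_iff, smul_comm g, smul_comm g, hb, hc]⟩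
  let R : V → V → Prop := fun v u => ∀ g k : K, SameLine F v (g • z) → SameLine F u (k • z) → g⁻¹ * k ∈ Z
  have hall : ∀ {v u : V}, S v → S u → R v u := by
    intro v u hv hu
    refine P.geom.rel_all R ?_ ?_ ?_ ?_ P.S_z (P.geom.map_S r P.S_z) ?_ (fun h => hrz (mem_line.2 h)) hv hu
    · intro v u hv hu hvu g k hg hk
      refine hZ (hsame hv hg ?_)
      obtain ⟨c, hc⟩ := hk
      obtain ⟨d, hd⟩ := hvu
      exact ⟨c * d, by rw [mul_smul, hd, hc]⟩
    · intro v u hv hu hR g k hg hk
      simpa using Z.inv_mem (hR k g hk hg)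
    · intro v u s hv hu hs h1 h2 g k hg hk
      obtain ⟨m, hm⟩ := P.geom.trans P.S_z hu
      have := Z.mul_mem (h1 g m hg hm) (h2 m k hm hk)
      rwa [show g⁻¹ * m * (m⁻¹ * k) = g⁻¹ * k by group] at this
    · intro e v u hv hu hR g k hg hk
      have tr : ∀ {x : V} {g : K}, SameLine F (e • x) (g • z) → SameLine F x ((e⁻¹ * g) • z) := by
        rintro x g ⟨c, hc⟩
        exact ⟨c, by rw [mul_smul, ← hc, ← smul_comm e c, inv_smul_smul]⟩
      have := hR _ _ (tr hg) (tr hk)
      rwa [show (e⁻¹ * g)⁻¹ * (e⁻¹ * k) = g⁻¹ * k by group] at this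
    · intro g k hg hk
      have h1 := hsame P.S_z hg (g := g) (k := 1) ⟨1, by simp⟩
      have h2 := hsame (P.geom.map_S r P.S_z) (g := r) ⟨1, one_smul _ _⟩ hk
      have := Z.mul_mem (Z.mul_mem (hZ h1) hr) (hZ h2)
      simpa [mul_assoc] using this
  refine eq_top_iff.2 fun g _ => ?_
  have := hall P.S_z (P.geom.map_S g P.S_z) 1 g ⟨1, by simp⟩ ⟨1, one_smul _ _⟩
  simpa using this

end point

section line

variable (hP : PolarHyp K S φ)
include hP

theorem line_perp {e f x : V} (he : S e) (hf : S f) (hef : φ e f = 0)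
    (hx : x ∈ Submodule.span F {e, f}) : φ e x = 0 ∧ φ f x = 0 := by
  obtain ⟨a, b, rfl⟩ := Submodule.mem_span_pair.1 hx
  simp [(hP.point e he).self, (hP.point f hf).self, hef, (phi_symm (hP.point e he)).1 hef]

theorem exists_nonzero {e f : V} (he : S e) (hf : S f) (hl : ¬ SameLine F e f) :
    ∃ y, φ e y = 0 ∧ φ f y = 1 := by
  have : ∃ y, φ e y = 0 ∧ φ f y ≠ 0 := by
    by_contra h
    push Not at h
    exact hl ((hP.point e he).inj f hf h)
  obtain ⟨y, h1, h2⟩ := this
  exact ⟨(φ f y)⁻¹ • y, by simp [h1], by simp [h2]⟩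

variable (K) in
omit hP in
/-- The radical at `e` and the part of that at `f` fixing `e`. -/
def lineRad (φ : V → Module.Dual F V) (e f : V) : Subgroup K :=
  rad K φ e ⊔ (rad K φ f ⊓ MulAction.stabilizer K e)

theorem lineRad_isPGroup (p : ℕ) [Fact p.Prime] [CharP F p] {e f : V} (he : S e) (hf : S f) :
    IsPGroup p (lineRad K φ e f) := by
  refine (rad_isPGroup (hP.point e he) p).to_sup_of_normal_left'
    ((rad_isPGroup (hP.point f hf) p).to_le inf_le_left) (inf_le_right.trans fun g hg => ?_)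
  refine Subgroup.mem_normalizer_iff.2 fun t => ⟨fun ht => ?_, fun ht => ?_⟩
  · have := rad_conj (hP.point e he) ht g
    rwa [show g • e = e from hg] at this
  · have := rad_conj (hP.point e he) ht g⁻¹
    rw [show g⁻¹ • e = e from inv_smul_eq_iff.2 hg.symm] at this
    simpa [mul_assoc] using this

theorem lineRad_le [Finite V] {e f : V} (he : S e) (hf : S f) (hef : φ e f = 0) :
    lineRad K φ e f ≤ setStab K (Submodule.span F {e}) ⊓ setStab K (Submodule.span F {e, f}) := by
  refine sup_le (le_inf (rad_le_setStab (hP.point e he)) fun t ht => mem_setStab_span ?_) ?_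
  · rintro x (rfl | rfl)
    · rw [ht.1]; exact Submodule.subset_span (by simp)
    · obtain ⟨a, ha⟩ := ht.2 x hef
      rw [ha]
      exact add_mem (Submodule.subset_span (by simp)) (Submodule.smul_mem _ a (Submodule.subset_span (by simp)))
  · rintro t ⟨ht, hte⟩
    have hte' : t • e = e := hte
    refine ⟨mem_setStab_span fun x hx => ?_, mem_setStab_span ?_⟩
    · rw [Set.mem_singleton_iff.1 hx, hte']
      exact Submodule.mem_span_singleton_self e
    · rintro x (rfl | rfl)
      · rw [hte']; exact Submodule.subset_span (by simp)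
      · rw [ht.1]; exact Submodule.subset_span (by simp)

/-- A point joined to `e` by a fixed line lies on `⟨e, f⟩`. -/
theorem mem_line_of_fix {e f x : V} (he : S e) (hf : S f) (hef : φ e f = 0) (hl : ¬ SameLine F e f)
    (hx : S x) (hex : φ e x = 0)
    (hfix : ∀ t ∈ lineRad K φ e f, t • x ∈ Submodule.span F {e, x}) : x ∈ Submodule.span F {e, f} := by
  have Pf := hP.point f hf
  have Pe := hP.point e he
  have hfe : φ f e = 0 := (phi_symm Pe).1 hef
  have hconj : ∀ {y y' : V}, S y → S y' → φ e y = 0 → φ f y = 1 → φ e y' = 0 → φ f y' = 1 →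
      ∃ t ∈ rad K φ f ⊓ MulAction.stabilizer K e, t • y = y' := by
    intro y y' hy hy' h1 h2 h1' h2'
    obtain ⟨t, ht, hty⟩ := Pf.regular y y' hy hy' h2 h2'
    refine ⟨t, ⟨ht, ?_⟩, hty⟩
    obtain ⟨c, hc⟩ := ht.2 e hfe
    have h3 : φ y' (t • e) = 0 := by
      rw [← hty, Pe.inv]
      exact (phi_symm Pe).1 h1
    have h4 : φ y' f ≠ 0 := fun h => by
      have := (phi_symm Pe).1 h
      rw [h2'] at this
      exact one_ne_zero this
    rw [hc, map_add, map_smul, (phi_symm Pe).1 h1', zero_add, smul_eq_mul, mul_eq_zero,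
      or_iff_left h4] at h3
    show t • e = e
    rw [hc, h3, zero_smul, add_zero]
  by_contra hxL
  have hxe : ¬ SameLine F e x := fun h =>
    hxL (Submodule.span_mono (by simp) (mem_line.2 h))
  by_cases hfx : φ f x = 0
  · obtain ⟨w, hew, hfw, hxw⟩ : ∃ w, φ e w = 0 ∧ φ f w = 0 ∧ φ x w ≠ 0 := by
      by_contra h
      push Not at h
      exact hxL (hP.dual he hf hef h)
    obtain ⟨y₀, hy₀e, hy₀f⟩ := exists_nonzero hP he hf hl
    obtain ⟨a, ha⟩ := hP.lift he hf hef hy₀e hy₀f
    obtain ⟨a', ha'⟩ := hP.lift (y := y₀ + w) he hf hef (by simp [hy₀e, hew]) (by simp [hy₀f, hfw])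
    obtain ⟨t, ht, hty⟩ := hconj ha ha' (by simp [hy₀e, hef]) (by simp [hy₀f, Pf.self])
      (by simp [hy₀e, hew, hef]) (by simp [hy₀f, hfw, Pf.self])
    obtain ⟨c, hc⟩ := ht.1.2 x hfx
    have hc0 : c = 0 := by
      by_contra hc0
      have h1 := hfix t (Subgroup.mem_sup_right ht)
      rw [hc] at h1
      have h2 := sub_mem h1 (Submodule.subset_span (by simp : x ∈ ({e, x} : Set V)))
      rw [add_sub_cancel_left] at h2
      obtain ⟨b, d, hbd⟩ := Submodule.mem_span_pair.1 ((Submodule.smul_mem_iff _ hc0).1 h2)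
      by_cases hd : d = 0
      · exact hl ⟨b, by rw [← hbd, hd, zero_smul, add_zero]⟩
      · refine hxL (Submodule.mem_span_pair.2 ⟨-(d⁻¹ * b), d⁻¹, ?_⟩)
        rw [← hbd, smul_add, smul_smul, inv_smul_smul₀ hd, neg_smul, neg_add_cancel_left]
    rw [hc0, zero_smul, add_zero] at hc
    have h3 := Pe.inv t x (y₀ + a • f)
    rw [hc, hty] at h3
    have hxf : φ x f = 0 := (phi_symm Pe).1 hfx
    simp [hxf] at h3
    exact hxw h3
  · set x' := (φ f x)⁻¹ • x with hx'
    have hx's : S x' := Pe.S_smul _ _ (inv_ne_zero hfx) hx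
    have hx'e : φ e x' = 0 := by simp [hx', hex]
    have hx'f : φ f x' = 1 := by simp [hx', hfx]
    obtain ⟨y, hy, hye, hyf, hne⟩ := hP.move he hf hx's hef hl hx'e hx'f
    obtain ⟨t, ht, hty⟩ := hconj hx's hy hx'e hx'f hye hyf
    have h1 := hfix t (Subgroup.mem_sup_right ht)
    have h2 : y ∈ Submodule.span F {e, x} := by
      rw [← hty, hx', smul_comm]
      exact Submodule.smul_mem _ _ h1
    obtain ⟨b, d, hbd⟩ := Submodule.mem_span_pair.1 h2
    have hd : d * φ f x = 1 := by
      rw [← hyf, ← hbd]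
      simp [hfe]
    refine hne b ?_
    rw [← hbd, hx', eq_inv_of_mul_eq_one_left hd, add_comm]

variable [Finite V] [Finite K]

theorem not_dvd_index_line (p : ℕ) [Fact p.Prime] [CharP F p] {e f : V} (he : S e) (hf : S f)
    (hef : φ e f = 0) (hl : ¬ SameLine F e f) :
    ¬ p ∣ (setStab K (Submodule.span F {e}) ⊓ setStab K (Submodule.span F {e, f})).index := by
  set G₁ := setStab K (Submodule.span F {e}) with hG₁
  set B₂ := G₁ ⊓ setStab K (Submodule.span F {e, f})
  set A₀ := lineRad K φ e f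
  have hA : A₀ ≤ B₂ := lineRad_le hP he hf hef
  have h1 : ¬ p ∣ (B₂.subgroupOf G₁).index := by
    refine not_dvd_index_parabolic (Q := A₀.subgroupOf G₁) (Subgroup.comap_mono hA)
      ((lineRad_isPGroup hP p he hf).of_equiv
        (Subgroup.subgroupOfEquivOfLe (hA.trans inf_le_left)).symm) fun g hg => ?_
    refine ⟨g.2, ?_⟩
    have hge : (g : K) • e ∈ Submodule.span F {e} := g.2.1 e (Submodule.mem_span_singleton_self e)
    obtain ⟨a, ha⟩ := mem_line.1 hge
    have ha0 : a ≠ 0 := fun h => by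
      rw [h, zero_smul, eq_comm, smul_eq_zero_iff_eq] at ha
      exact z_ne (hP.point e he) ha
    have hgf : φ e ((g : K) • f) = 0 := by
      rw [← (hP.point e he).sc a e _ ha0, ha, (hP.point e he).inv, hef]
    have hfixg : ∀ t ∈ A₀, t • ((g : K) • f) ∈ Submodule.span F {e, (g : K) • f} := by
      intro t ht
      obtain ⟨-, hL⟩ : (g : K)⁻¹ * t * g ∈ B₂ := hg ⟨t, (hA ht).1⟩ ht
      obtain ⟨b, d, hbd⟩ := Submodule.mem_span_pair.1 (hL.1 f (Submodule.subset_span (by simp)))
      refine Submodule.mem_span_pair.2 ⟨b * a, d, ?_⟩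
      rw [mul_smul, mul_smul, eq_inv_smul_iff, smul_add, smul_comm (g : K) b, ← ha, smul_comm (g : K) d,
        smul_smul] at hbd
      exact hbd
    have hgfL := mem_line_of_fix hP he hf hef hl ((hP.point e he).geom.map_S _ hf) hgf hfixg
    refine mem_setStab_span ?_
    rintro x (rfl | rfl)
    · exact Submodule.span_mono (by simp) hge
    · exact hgfL
  rw [← Subgroup.relIndex_mul_index (inf_le_left : B₂ ≤ G₁)]
  exact fun h => ((Fact.out : p.Prime).dvd_mul.1 h).elim h1 (not_dvd_index_point (hP.point e he) p)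

theorem noType_point (p : ℕ) [Fact p.Prime] [CharP F p]
    (hrk : ∃ e f, S e ∧ S f ∧ φ e f = 0 ∧ ¬ SameLine F e f)
    (haut : ∀ a : MulAut (K ⧸ Subgroup.center K), Semi F K S φ a) :
    NoType p (K ⧸ Subgroup.center K) := by
  classical
  obtain ⟨e, f, he, hf, hef, hl⟩ := hrk
  have Pe := hP.point e he
  set π := QuotientGroup.mk' (Subgroup.center K)
  have hπ : Function.Surjective π := QuotientGroup.mk'_surjective _
  set G₁ := setStab K (Submodule.span F {e})
  set G₂ := setStab K (Submodule.span F {e, f})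
  set A₀ := lineRad K φ e f
  have hA : A₀ ≤ G₁ ⊓ G₂ := lineRad_le hP he hf hef
  obtain ⟨R, hR⟩ := ((lineRad_isPGroup hP p he hf).of_equiv
    (Subgroup.subgroupOfEquivOfLe hA).symm).exists_le_sylow
  set P₁ : Subgroup K := (R : Subgroup (G₁ ⊓ G₂ : Subgroup K)).map (G₁ ⊓ G₂).subtype with hP₁
  have hP₁p : IsPGroup p P₁ := R.isPGroup'.map _
  have hP₁i : ¬ p ∣ P₁.index := by
    rw [hP₁, Subgroup.index_map_subtype]
    exact fun h => ((Fact.out : p.Prime).dvd_mul.1 h).elim R.not_dvd_index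
      (not_dvd_index_line hP p he hf hef hl)
  have hAP : A₀ ≤ P₁ := fun t ht => ⟨⟨t, hA ht⟩, hR ht, rfl⟩
  have hP₁le : P₁ ≤ G₁ ⊓ G₂ := Subgroup.map_subtype_le _
  refine noType_of_sylow ((hP₁p.toSylow hP₁i).mapSurjective hπ) fun A M₀ h => ?_
  have hcoe : (((hP₁p.toSylow hP₁i).mapSurjective hπ : Sylow p _) : Subgroup _) = P₁.map π := rfl
  have hU₁ : P₁.map π ≤ G₁.map π := Subgroup.map_mono (hP₁le.trans inf_le_left)
  have hU₂ : P₁.map π ≤ G₂.map π := Subgroup.map_mono (hP₁le.trans inf_le_right)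
  have hcomap : ∀ W : Submodule F V, ∀ Y : Subgroup (K ⧸ Subgroup.center K),
      (setStab K W).map π ≤ Y → setStab K W ≤ Y.comap π := fun W Y hY =>
    Subgroup.map_le_iff_le_comap.1 hY
  obtain ⟨x₁, hx₁, hex₁⟩ := Pe.exists_pair
  have hne : ∀ W : Submodule F V, e ∈ W → x₁ ∉ W → (∀ c : F, c ≠ 0 → c • x₁ ∉ W) →
      (setStab K W).map π ≠ ⊤ := by
    intro W heW _ hxW htop
    have h1 : setStab K W = ⊤ := by
      rw [← Subgroup.comap_map_eq_self (f := π) (H := setStab K W) (by
        rw [QuotientGroup.ker_mk']; exact center_le_setStab Pe W), htop, Subgroup.comap_top]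
    obtain ⟨g, c, hg⟩ := Pe.geom.trans he hx₁
    have hc : c ≠ 0 := fun h => by
      rw [h, zero_smul, eq_comm, smul_eq_zero_iff_eq] at hg
      exact z_ne Pe hg
    exact hxW c hc (hg ▸ (h1 ▸ Subgroup.mem_top g : g ∈ setStab K W).1 e heW)
  have hn₁ : G₁.map π ≠ ⊤ := by
    refine hne _ (Submodule.mem_span_singleton_self e) (fun h => ?_) fun c hc h => ?_
    all_goals
      obtain ⟨b, hb⟩ := Submodule.mem_span_singleton.1 h
      have := congrArg (φ e) hb
      simp [Pe.self, hex₁] at this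
    exact hc this.symm
  have hn₂ : G₂.map π ≠ ⊤ := by
    refine hne _ (Submodule.subset_span (by simp)) (fun h => ?_) fun c hc h => ?_
    · have := (line_perp hP he hf hef h).1
      simp [hex₁] at this
    · have := (line_perp hP he hf hef h).1
      simp [hex₁, hc] at this
  -- the semilinear map preserves the point and the line
  have hinv : ∀ a ∈ A, (∀ y ∈ G₁.map π, a y ∈ G₁.map π) ∧ ∀ y ∈ G₂.map π, a y ∈ G₂.map π := by
    intro a ha
    obtain ⟨Ψ, σ, hinj, hsl, hS, hperp, hk⟩ := haut a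
    have hfix : ∀ t ∈ A₀, ∃ u ∈ P₁, ∀ x, ∃ c : F, t • Ψ x = c • Ψ (u • x) := by
      intro t ht
      have ht' : π t ∈ (P₁.map π).map a.toMonoidHom := by
        rw [← hcoe, h.map_U ha, hcoe]
        exact ⟨t, hAP ht, rfl⟩
      obtain ⟨_, ⟨u, hu, rfl⟩, e'⟩ := ht'
      obtain ⟨k', hk', hkx⟩ := hk u
      have hc : k'⁻¹ * t ∈ Subgroup.center K := QuotientGroup.eq.1 (hk'.symm.trans e')
      obtain ⟨c, hc'⟩ := (Pe.center _).1 hc
      refine ⟨u, hu, fun x => ⟨c, ?_⟩⟩
      have := congrArg (k' • ·) (hc' (Ψ x))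
      simpa [← mul_smul, smul_comm k' c, hkx] using this
    have hΨW : ∀ {W : Set V}, (∀ x ∈ W, Ψ x ∈ Submodule.span F W) →
        ∀ x ∈ Submodule.span F W, Ψ x ∈ Submodule.span F W := by
      intro W hW x hx
      induction hx using Submodule.span_induction with
      | mem x hx => exact hW x hx
      | zero => simp
      | add x y _ _ hx hy => rw [map_add]; exact add_mem hx hy
      | smul c x _ hx => rw [hsl]; exact Submodule.smul_mem _ _ hx
    have hΨe : Ψ e ∈ Submodule.span F {e} := by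
      refine eq_of_sameLine_fix Pe (hS e he) fun t ht => ?_
      obtain ⟨u, hu, hux⟩ := hfix t (Subgroup.mem_sup_left ht)
      obtain ⟨c, hc⟩ := hux e
      obtain ⟨b, hb⟩ := mem_line.1 ((hP₁le hu).1.1 e (Submodule.mem_span_singleton_self e))
      exact mem_line.2 ⟨c * σ b, by rw [hc, ← hb, hsl, smul_smul]⟩
    have hΨf : Ψ f ∈ Submodule.span F {e, f} := by
      obtain ⟨b, hb⟩ := mem_line.1 hΨe
      have hb0 : b ≠ 0 := fun h0 => z_ne Pe (hinj (by rw [← hb, h0, zero_smul, map_zero]))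
      refine mem_line_of_fix hP he hf hef hl (hS f hf) ?_ fun t ht => ?_
      · rw [← Pe.sc b e _ hb0, hb]
        exact hperp _ _ hef
      · obtain ⟨u, hu, hux⟩ := hfix t ht
        obtain ⟨c, hc⟩ := hux f
        obtain ⟨r, s, hrs⟩ := Submodule.mem_span_pair.1 ((hP₁le hu).2.1 f (Submodule.subset_span (by simp)))
        refine Submodule.mem_span_pair.2 ⟨c * σ r * b, c * σ s, ?_⟩
        rw [hc, ← hrs, map_add, hsl, hsl, ← hb]
        module
    have hpres : ∀ T : Set V, (∀ x ∈ T, Ψ x ∈ Submodule.span F T) →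
        ∀ y ∈ (setStab K (Submodule.span F T)).map π, a y ∈ (setStab K (Submodule.span F T)).map π := by
      rintro T hT _ ⟨k, hk0, rfl⟩
      obtain ⟨k', hk', hkx⟩ := hk k
      refine ⟨k', mem_setStab fun x hx => ?_, hk'.symm⟩
      have hinjT : Function.Injective (fun y : Submodule.span F T =>
          (⟨Ψ y, hΨW hT y y.2⟩ : Submodule.span F T)) := fun y y' e' =>
        Subtype.ext (hinj (congrArg Subtype.val e'))
      have hsurj := Finite.injective_iff_surjective.1 hinjT
      obtain ⟨y, hy⟩ := hsurj ⟨x, hx⟩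
      rw [show x = Ψ y from (congrArg Subtype.val hy).symm, hkx]
      exact hΨW hT _ (hk0.1 y y.2)
    refine ⟨hpres _ fun x hx => ?_, hpres _ ?_⟩
    · rw [Set.mem_singleton_iff.1 hx]; exact hΨe
    · rintro x (rfl | rfl)
      · exact Submodule.span_mono (by simp) hΨe
      · exact hΨf
  refine h.false_of_two (hcoe.le.trans hU₁) (hcoe.le.trans hU₂) hn₁ hn₂
    (fun a ha => (hinv a ha).1) (fun a ha => (hinv a ha).2) fun Y h₁ h₂ => ?_
  obtain ⟨t, ht, hte⟩ : ∃ t ∈ rad K φ f, t • e ∉ Submodule.span F {e} := by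
    by_contra hno
    push Not at hno
    obtain ⟨b, hb⟩ := mem_line.1 (eq_of_sameLine_fix (hP.point f hf) he hno)
    exact hl (sameLine_symm (Pe.geom.ne_zero he) ⟨b, hb⟩)
  have htL : t ∈ G₂ := by
    refine mem_setStab_span ?_
    rintro x (rfl | rfl)
    · obtain ⟨c, hc⟩ := ht.2 x ((phi_symm Pe).1 hef)
      rw [hc]
      exact add_mem (Submodule.subset_span (by simp)) (Submodule.smul_mem _ c (Submodule.subset_span (by simp)))
    · rw [ht.1]; exact Submodule.subset_span (by simp)
  have := eq_top_of_move Pe (hcomap _ Y h₁) (hcomap _ Y h₂ htL) hte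
  exact Subgroup.comap_injective hπ (this.trans (Subgroup.comap_top π).symm)

end line

end Cfsg.Agent.PMinLie
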