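import Cfsg.Agent.Lib.PMinLie.Polar
import Cfsg.Agent.Lib.FullOver.RankOne
import Mathlib.LinearAlgebra.Dimension.Constructions

/-!
Groups of rank one.
-/

set_option autoImplicit false
set_option linter.unusedSectionVars false

namespace Cfsg.Agent.PMinLie

theorem oneType_of_cell {G : Type*} [Group G] [Finite G] [IsSimpleGroup G] {p : ℕ} [Fact p.Prime]
    {S : Sylow p G} {B : Subgroup G} {n : G} (hd : FullOver.CellData S B n) : OneType p G :=
  oneType_of_sylow S fun _ _ h => (hd.le h.le h.ne_top).trans hd.le_normalizer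

theorem oneType_sz {F : Type*} [Field F] [Fintype F] {m : ℕ} (hm : 1 ≤ m)
    (hF : Fintype.card F = 2 ^ (2 * m + 1)) : OneType 2 (Cfsg.Sz F m) := by
  have : Fact (Nat.Prime 2) := ⟨Nat.prime_two⟩
  have := SZ.isSimple hm hF
  obtain ⟨S, B, n, hd⟩ := FullOver.exists_cellData_sz hm hF
  exact oneType_of_cell hd

open Cfsg.Lie Chev BNSetup Twisted.Ree in
theorem oneType_ree {F : Type*} [Field F] [Fintype F] [CharP F 3] {m : ℕ} (hm : 1 ≤ m)
    (hK : Fintype.card F = 3 ^ (2 * m + 1)) : OneType 3 ↥(G1 F m) := by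
  have : Fact (Nat.Prime 3) := ⟨Nat.prime_three⟩
  have := isSimpleGroup_G1 hK hm
  obtain ⟨S, B, n, hd⟩ := FullOver.exists_cellData_ree hK
  exact oneType_of_cell hd

open ClassicalSimple SylowFix

variable {F V K : Type*} [Field F] [AddCommGroup V] [Module F V] [Group K] [DistribMulAction K V]
  [SMulCommClass K F V] {S : V → Prop} {φ : V → Module.Dual F V} {z : V}

theorem independent_four [FiniteDimensional F V] (h3 : Module.finrank F V ≤ 3) (f₁ f₂ : Module.Dual F V)
    {e x y y' : V} (he : f₁ e = 0 ∧ f₂ e = 0) (hx : f₁ x = 0 ∧ f₂ x = 0) (hy : f₁ y = 0 ∧ f₂ y ≠ 0)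
    (hy' : f₁ y' ≠ 0) (he0 : e ≠ 0) : ∃ a : F, a • e = x := by
  by_contra hxe
  push Not at hxe
  have hli : LinearIndependent F ![e, x, y, y'] := by
    rw [Fintype.linearIndependent_iff]
    intro g hg
    simp only [Fin.sum_univ_four, Matrix.cons_val_zero, Matrix.cons_val_one, Matrix.cons_val] at hg
    have h3' : g 3 = 0 := by
      have := congrArg f₁ hg
      simpa [he.1, hx.1, hy.1, hy'] using this
    have h2' : g 2 = 0 := by
      have := congrArg f₂ hg
      simpa [he.2, hx.2, h3', hy.2] using this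
    have h1' : g 1 = 0 := by
      by_contra h1
      refine hxe (-(g 1)⁻¹ * g 0) ?_
      rw [h2', h3', zero_smul, zero_smul, add_zero, add_zero, add_eq_zero_iff_eq_neg] at hg
      rw [mul_smul, hg, neg_smul, smul_neg, neg_neg, inv_smul_smul₀ h1]
    have h0' : g 0 = 0 := by
      rw [h1', h2', h3', zero_smul, zero_smul, zero_smul, add_zero, add_zero, add_zero,
        smul_eq_zero] at hg
      exact hg.resolve_right he0
    intro i
    fin_cases i <;> assumption
  have := hli.fintype_card_le_finrank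
  rw [Fintype.card_fin] at this
  omega

/-- In dimension at most three the radical is a Sylow subgroup with one cell outside its normaliser. -/
theorem oneType_point [Finite K] [Finite V] [FiniteDimensional F V] (P : PointHyp K S φ z)
    (hP : ∀ x, S x → PointHyp K S φ x) (h3 : Module.finrank F V ≤ 3) (p : ℕ) [Fact p.Prime] [CharP F p]
    [IsSimpleGroup (K ⧸ Subgroup.center K)] : OneType p (K ⧸ Subgroup.center K) := by
  classical
  set π := QuotientGroup.mk' (Subgroup.center K)
  have hπ : Function.Surjective π := QuotientGroup.mk'_surjective _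
  set G₁ := setStab K (Submodule.span F {z})
  set R := rad K φ z
  have hz0 := z_ne P
  -- the points other than `z` are not orthogonal to it
  have hperp : ∀ x, S x → φ z x = 0 → SameLine F z x := by
    intro x hx hzx
    by_contra hl
    obtain ⟨y, hy⟩ : ∃ y, φ z y = 0 ∧ φ x y ≠ 0 := by
      by_contra h
      push Not at h
      exact hl (P.inj x hx h)
    obtain ⟨y', -, hy'⟩ := P.exists_pair
    exact hl (independent_four h3 (φ z) (φ x) ⟨P.self, (phi_symm P).1 hzx⟩ ⟨hzx, (hP x hx).self⟩ hy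
      (by rw [hy']; exact one_ne_zero) hz0)
  obtain ⟨x₀, hx₀, hzx₀⟩ := P.exists_pair
  have hx₀z : φ x₀ z ≠ 0 := fun h => by
    have := (phi_symm P).1 h
    rw [hzx₀] at this
    exact one_ne_zero this
  obtain ⟨n, hn⟩ := P.geom.trans P.S_z hx₀
  have hzne : ∀ {g : K}, g • z ∉ Submodule.span F {z} → φ z (g • z) ≠ 0 := fun {g} hg h =>
    hg (mem_line.2 (hperp _ (P.geom.map_S g P.S_z) h))
  have hcell : ∀ g ∉ G₁, ∃ t ∈ R, ∃ b ∈ G₁, g = t * n * b := by
    intro g hg
    have hgz : g • z ∉ Submodule.span F {z} := fun h => hg (mem_setStab_span fun x hx => by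
      rw [Set.mem_singleton_iff.1 hx]; exact h)
    have hc := hzne hgz
    obtain ⟨t, ht, htx⟩ := P.regular x₀ ((φ z (g • z))⁻¹ • g • z) hx₀
      (P.S_smul _ _ (inv_ne_zero hc) (P.geom.map_S g P.S_z)) hzx₀ (by simp [hc])
    refine ⟨t, ht, (t * n)⁻¹ * g, mem_setStab_span fun x hx => ?_, by group⟩
    rw [Set.mem_singleton_iff.1 hx]
    obtain ⟨a, ha⟩ := hn
    refine mem_line.2 ⟨φ z (g • z) * a⁻¹, ?_⟩
    have ha0 : a ≠ 0 := fun h => by
      rw [h, zero_smul, eq_comm, smul_eq_zero_iff_eq] at ha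
      exact hz0 ha
    rw [mul_smul ((t * n)⁻¹) g z, eq_inv_smul_iff, smul_comm (t * n), mul_smul t n z, ← ha, smul_comm t a,
      htx, mul_smul, inv_smul_smul₀ ha0, smul_inv_smul₀ hc]
  -- the radical is a Sylow subgroup
  have hidx : ¬ p ∣ R.index := by
    have hle : R ≤ G₁ := rad_le_setStab P
    have hnorm : (R.subgroupOf G₁).Normal := ⟨fun t ht g => by
      obtain ⟨a, ha⟩ := mem_line.1 (g.2.1 z (Submodule.mem_span_singleton_self z))
      have ha0 : a ≠ 0 := fun h => by
        rw [h, zero_smul, eq_comm, smul_eq_zero_iff_eq] at ha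
        exact hz0 ha
      have := rad_conj P ht (g : K)
      rwa [← ha, rad_scale P ha0] at this⟩
    obtain ⟨T, hT⟩ := ((rad_isPGroup P p).of_equiv (Subgroup.subgroupOfEquivOfLe hle).symm :
      IsPGroup p (R.subgroupOf G₁)).exists_le_sylow
    have hTR : (T : Subgroup G₁) = R.subgroupOf G₁ := by
      refine le_antisymm (fun g hg => ?_) hT
      obtain ⟨a, ha⟩ := mem_line.1 (g.2.1 z (Submodule.mem_span_singleton_self z))
      have ha0 : a ≠ 0 := fun h => by
        rw [h, zero_smul, eq_comm, smul_eq_zero_iff_eq] at ha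
        exact hz0 ha
      have hc : φ z ((g : K) • x₀) ≠ 0 := fun h => by
        have h' : φ (a • z) ((g : K) • x₀) = 0 := (P.sc a z _ ha0).2 h
        rw [ha, P.inv, hzx₀] at h'
        exact one_ne_zero h'
      obtain ⟨t, ht, htx⟩ := P.regular x₀ ((φ z ((g : K) • x₀))⁻¹ • (g : K) • x₀) hx₀
        (P.S_smul _ _ (inv_ne_zero hc) (P.geom.map_S _ hx₀)) hzx₀ (by simp [hc])
      set g' : G₁ := (⟨t, hle ht⟩ : G₁)⁻¹ * g with hg'
      have hg'T : g' ∈ (T : Subgroup G₁) := mul_mem (inv_mem (hT ht)) hg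
      obtain ⟨k, hk⟩ := T.isPGroup' ⟨g', hg'T⟩
      have hk' : (g' : K) ^ p ^ k = 1 := congrArg (fun u : (T : Subgroup G₁) => ((u : G₁) : K)) hk
      have hfix : ∀ v : V, (∃ b : F, (g' : K) • v = b • v) → (g' : K) • v = v := by
        rintro v ⟨b, hb⟩
        by_cases hv : v = 0
        · simp [hv]
        have hpow : ∀ j : ℕ, ((g' : K) ^ j) • v = b ^ j • v := by
          intro j
          induction j with
          | zero => simp
          | succ j ih => rw [pow_succ, mul_smul, hb, smul_comm, ih, smul_smul, pow_succ']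
        have h1 : b ^ p ^ k = 1 := smul_left_injective F hv (by
          show b ^ p ^ k • v = (1 : F) • v
          rw [← hpow, hk', one_smul, one_smul])
        have : b = 1 := iterateFrobenius_inj F p k (by
          simp only [iterateFrobenius_def, one_pow]
          exact h1)
        rw [hb, this, one_smul]
      have hgz : (g' : K) • z = z := hfix z ⟨a, by
        show ((t⁻¹ * g : K)) • z = a • z
        rw [mul_smul, ← ha, smul_comm, inv_smul_eq_iff.2 ht.1.symm]⟩
      have hgx : (g' : K) • x₀ = x₀ := hfix x₀ ⟨φ z ((g : K) • x₀), by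
        show ((t⁻¹ * g : K)) • x₀ = _
        rw [mul_smul, inv_smul_eq_iff, smul_comm t, htx, smul_inv_smul₀ hc]⟩
      have hall : ∀ v : V, (g' : K) • v = v := by
        intro v
        set w := v - φ z v • x₀ - ((φ x₀ (v - φ z v • x₀)) / φ x₀ z) • z with hw
        have hw1 : φ z w = 0 := by simp [hw, hzx₀, P.self]
        have hw2 : φ x₀ w = 0 := by simp [hw, div_mul_cancel₀ _ hx₀z]
        have hgw : (g' : K) • w = w := by
          by_cases hw0 : w = 0
          · simp [hw0]
          refine hfix w ?_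
          have hne : φ z x₀ ≠ 0 := by rw [hzx₀]; exact one_ne_zero
          obtain ⟨b, hb⟩ := independent_four h3 (φ z) (φ x₀) (x := (g' : K) • w) ⟨hw1, hw2⟩
            ⟨by conv_lhs => rw [← hgz]
                rw [P.inv, hw1],
             by conv_lhs => rw [← hgx]
                rw [P.inv, hw2]⟩
            ⟨P.self, hx₀z⟩ hne hw0
          exact ⟨b, hb.symm⟩
        have e : v = w + φ z v • x₀ + ((φ x₀ (v - φ z v • x₀)) / φ x₀ z) • z := by rw [hw]; abel
        conv_lhs => rw [e]
        rw [smul_add, smul_add, smul_comm, smul_comm (g' : K) _ z, hgw, hgx, hgz, ← e]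
      have h1 : g' = 1 := Subtype.ext (P.ext _ hall)
      rw [hg', inv_mul_eq_one] at h1
      rw [← h1]
      exact ht
    rw [← Subgroup.relIndex_mul_index hle]
    refine fun h => ((Fact.out : p.Prime).dvd_mul.1 h).elim ?_ (not_dvd_index_point P p)
    show ¬ p ∣ (R.subgroupOf G₁).index
    exact hTR ▸ T.not_dvd_index
  have hker : Subgroup.center K ≤ G₁ := center_le_setStab P _
  set T := ((rad_isPGroup P p).toSylow hidx).mapSurjective hπ
  refine oneType_of_cell (S := T) (B := G₁.map π) (n := π n) ⟨?_, fun g hg => ?_, fun h => ?_⟩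
  · rintro _ ⟨g, hg, rfl⟩
    refine Subgroup.le_normalizer_map π ⟨g, Subgroup.mem_normalizer_fintype fun t ht => ?_, rfl⟩
    obtain ⟨a, ha⟩ := mem_line.1 (hg.1 z (Submodule.mem_span_singleton_self z))
    have ha0 : a ≠ 0 := fun h => by
      rw [h, zero_smul, eq_comm, smul_eq_zero_iff_eq] at ha
      exact hz0 ha
    have := rad_conj P ht g
    rwa [← ha, rad_scale P ha0] at this
  · obtain ⟨g, rfl⟩ := hπ g
    obtain ⟨t, ht, b, hb, rfl⟩ := hcell g fun h => hg ⟨g, h, rfl⟩
    exact ⟨π t, ⟨t, ht, rfl⟩, π b, ⟨b, hb, rfl⟩, by rw [map_mul, map_mul]⟩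
  · obtain ⟨t, ht, ht1⟩ := exists_rad_ne_one P
    have h1 : π t ∈ (T : Subgroup (K ⧸ Subgroup.center K)) := ⟨t, ht, rfl⟩
    rw [h, Subgroup.mem_bot] at h1
    exact ht1 (central_rad P ht ((QuotientGroup.eq_one_iff t).1 h1))

end Cfsg.Agent.PMinLie
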