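import Cfsg.Agent.Lib.PMinLie.Exceptional
import Cfsg.Agent.Lib.PMinLie.Polar
import Cfsg.Agent.Lib.PMinLie.RankOne
import Cfsg.Agent.Lib.SylowFix.Classical
import Cfsg.Agent.Lib.AutPSp.Decomposition
import Cfsg.Agent.Lib.AutPSU.Semilinear
import Cfsg.Agent.Lib.AutPOmega.Matrix
import Cfsg.Agent.Lib.ClassicalSimple.OrthOddChar2
import Cfsg.Agent.Lib.B2Iso.Iso
import Cfsg.Agent.Lib.D4Iso.Iso

/-!
Symplectic, unitary and orthogonal groups.
-/

set_option autoImplicit false
set_option linter.unusedSectionVars false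

namespace Cfsg.Agent.PMinLie

open ClassicalSimple SylowFix
open scoped Matrix

/-- A functional vanishing on the common kernel of two comes from their span. -/
theorem mem_span_of_forms {F V : Type*} [Field F] [AddCommGroup V] [Module F V]
    (φ : V → Module.Dual F V) (hinj : Function.Injective φ)
    (hlin : ∀ (a b : F) (e f : V), ∃ a' b' : F, φ (a' • e + b' • f) = a • φ e + b • φ f)
    {e f x : V} (h : ∀ w, φ e w = 0 → φ f w = 0 → φ x w = 0) : x ∈ Submodule.span F {e, f} := by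
  have h1 : φ x ∈ Submodule.span F (Set.range ![φ e, φ f]) := by
    refine mem_span_of_iInf_ker_le_ker fun w hw => ?_
    rw [Submodule.mem_iInf] at hw
    exact h w (hw 0) (hw 1)
  rw [Matrix.range_cons_cons_empty, Submodule.mem_span_pair] at h1
  obtain ⟨a, b, hab⟩ := h1
  obtain ⟨a', b', h2⟩ := hlin a b e f
  rw [← hinj (h2.trans hab)]
  exact Submodule.mem_span_pair.2 ⟨a', b', rfl⟩

section symplectic

variable {F V : Type*} [Field F] [AddCommGroup V] [Module F V] [FiniteDimensional F V] [Nontrivial V]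
  {B : LinearMap.BilinForm F V} (hA : LinearMap.IsAlt B) (hN : B.Nondegenerate)
include hA hN

theorem sp_polarHyp : PolarHyp (SpB B) (fun v : V => v ≠ 0) (fun v => B v) where
  point _ hz := sp_pointHyp hA hN hz
  lift {e f y} _ _ _ _ hy := ⟨0, by
    simp only [zero_smul, add_zero]
    rintro rfl
    simp at hy⟩
  move {e f x} _ hf _ hef hl hex hfx := by
    refine ⟨x + f, fun h => ?_, by simp [hex, hef], by simp [hfx, hA.self_eq_zero f], fun a h => hl ⟨a, ?_⟩⟩
    · have := congrArg (B f) h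
      simp [hfx, hA.self_eq_zero f] at this
    · exact (add_left_cancel h).symm
  dual _ _ _ h := mem_span_of_forms _ (fun u v e => sub_eq_zero.1 (hN.1 _ fun w => by simp [e]))
    (fun a b e f => ⟨a, b, by simp⟩) h

end symplectic

section unitary

variable {F V : Type*} [Field F] [Finite F] [AddCommGroup V] [Module F V] [FiniteDimensional F V]
  {σ : F →+* F} {h : V →ₛₗ[σ] V →ₗ[F] F} (hh : IsUnitaryForm σ h) (h3 : 3 ≤ Module.finrank F V)
include hh h3

theorem unit_polarHyp : PolarHyp (SUH h) (fun v : V => v ≠ 0 ∧ h v v = 0) (fun v => h v) where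
  point _ hz := unit_pointHyp hh h3 hz.1 hz.2
  lift {e f y} _ hf _ _ hy := by
    obtain ⟨d, hd⟩ := hh.exists_trace_one
    refine ⟨-(d * h y y), fun he => ?_, ?_⟩
    · have := congrArg (h f) he
      simp [hy, hf.2] at this
    · have hyf : h y f = 1 := by rw [hh.swap, hy, map_one]
      simp only [map_add, map_smulₛₗ, LinearMap.add_apply, LinearMap.smul_apply, smul_eq_mul,
        RingHom.id_apply, hf.2, hy, hyf, map_neg, map_mul, hh.σ_self]
      linear_combination -(h y y) * hd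
  move {e f x} _ hf hx hef hl hex hfx := by
    obtain ⟨s, hs0, hs⟩ := hh.exists_skew
    refine ⟨x + s • f, ⟨fun he => ?_, ?_⟩, by simp [hex, hef], by simp [hfx, hf.2],
      fun a ha => hl ⟨s⁻¹ * a, ?_⟩⟩
    · have := congrArg (h f) he
      simp [hfx, hf.2] at this
    · have hxf : h x f = 1 := by rw [hh.swap, hfx, map_one]
      simp only [map_add, map_smulₛₗ, LinearMap.add_apply, LinearMap.smul_apply, smul_eq_mul,
        RingHom.id_apply, hf.2, hx.2, hfx, hxf]
      linear_combination hs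
    · rw [mul_smul, ← add_left_cancel ha, inv_smul_smul₀ hs0]
  dual _ _ _ h' := mem_span_of_forms _ (fun u v e => sub_eq_zero.1 (hh.sep _ fun w => by simp [e]))
    (fun a b e f => ⟨σ a, σ b, by simp [hh.invol]⟩) h'

/-- There is an isotropic line. -/
theorem unit_exists_line (h4 : 4 ≤ Module.finrank F V) :
    ∃ e f : V, (e ≠ 0 ∧ h e e = 0) ∧ (f ≠ 0 ∧ h f f = 0) ∧ h e f = 0 ∧ ¬ SameLine F e f := by
  obtain ⟨e, he0, he⟩ := exists_isotropic hh h3
  obtain ⟨e', he', hee'⟩ := exists_isotropic_partner hh he he0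
  have key : ∀ f : V, f ≠ 0 → h f f = 0 → h e f = 0 → h e' f = 0 →
      ∃ e f : V, (e ≠ 0 ∧ h e e = 0) ∧ (f ≠ 0 ∧ h f f = 0) ∧ h e f = 0 ∧ ¬ SameLine F e f := by
    refine fun f hf0 hf hef he'f => ⟨e, f, ⟨he0, he⟩, ⟨hf0, hf⟩, hef, ?_⟩
    rintro ⟨a, rfl⟩
    have h1 : h e' e = 1 := by rw [hh.swap, hee', map_one]
    simp [h1] at he'f
    exact hf0 (by rw [he'f, zero_smul])
  obtain ⟨a, ha, ha0⟩ := exists_forall_eq_zero_notMem ![h e, h e'] ⊥
    (by rw [finrank_bot, Fintype.card_fin]; omega)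
  rw [Submodule.mem_bot] at ha0
  have hea : h e a = 0 := ha 0
  have he'a : h e' a = 0 := ha 1
  by_cases hqa : h a a = 0
  · exact key a ha0 hqa hea he'a
  obtain ⟨b, hb, hb0⟩ := exists_forall_eq_zero_notMem ![h e, h e', h a] ⊥
    (by rw [finrank_bot, Fintype.card_fin]; omega)
  rw [Submodule.mem_bot] at hb0
  have heb : h e b = 0 := hb 0
  have he'b : h e' b = 0 := hb 1
  have hab : h a b = 0 := hb 2
  by_cases hqb : h b b = 0
  · exact key b hb0 hqb heb he'b
  obtain ⟨r, hr⟩ := hh.exists_norm_eq (c := -h a a / h b b) (by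
    rw [map_div₀, map_neg, hh.σ_self, hh.σ_self])
  refine key (a + r • b) (fun e => hqa ?_) ?_ (by simp [hea, heb]) (by simp [he'a, he'b])
  · have := congrArg (h a) e
    simpa [hab] using this
  · simp only [map_add, map_smulₛₗ, LinearMap.add_apply, LinearMap.smul_apply, smul_eq_mul,
      RingHom.id_apply, hab, hh.comm_zero hab, mul_zero, add_zero, zero_add, ← mul_assoc]
    rw [mul_comm r (σ r), hr, div_mul_cancel₀ _ hqb, add_neg_cancel]

end unitary

section orthogonal

variable {F V : Type*} [Field F] [Finite F] [AddCommGroup V] [Module F V] [FiniteDimensional F V]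
  {Q : QuadraticForm F V} (hN : (bil Q).Nondegenerate) (h5 : 5 ≤ Module.finrank F V)
include hN h5

theorem orth_polarHyp : PolarHyp (siegelGroup Q) (fun v : V => v ≠ 0 ∧ Q v = 0) (fun v => bil Q v) where
  point _ hz := orth_pointHyp hN h5 hz.1 hz.2
  lift {e f y} _ hf _ _ hy := by
    refine ⟨-Q y, fun he => ?_, ?_⟩
    · have := congrArg (bil Q f) he
      simp [hy, bil_self_of_singular hf.2] at this
    · rw [quad_add, quad_smul_vec, hf.2, map_smul, smul_eq_mul, (bil_comm y f).trans hy]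
      ring
  move {e f x} he hf hx hef hl hex hfx := by
    obtain ⟨w, hw, hwl⟩ := exists_forall_eq_zero_notMem ![bil Q e, bil Q f, bil Q x] (Submodule.span F {e})
      (by rw [finrank_span_singleton he.1, Fintype.card_fin]; omega)
    have hew : bil Q e w = 0 := hw 0
    have hfw : bil Q f w = 0 := hw 1
    have hxw : bil Q x w = 0 := hw 2
    refine ⟨x + w - Q w • f, ⟨fun h => ?_, ?_⟩, by simp [hex, hew, hef],
      by simp [hfx, hfw, bil_self_of_singular hf.2], fun a ha => hwl ?_⟩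
    · have := congrArg (bil Q f) h
      simp [hfx, hfw, bil_self_of_singular hf.2] at this
    · rw [sub_eq_add_neg, ← neg_smul, quad_add, quad_add, quad_smul_vec, hx.2, hf.2, hxw]
      simp [(bil_comm x f).trans hfx, (bil_comm w f).trans hfw]
    · rw [add_sub_assoc] at ha
      have h1 : w - Q w • f = a • e := add_left_cancel ha
      have h2 := congrArg (bil Q x) h1
      simp [hxw, (bil_comm x f).trans hfx, (bil_comm x e).trans hex] at h2
      rw [h2, zero_smul, sub_zero] at h1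
      exact Submodule.mem_span_singleton.2 ⟨a, h1.symm⟩
  dual _ _ _ h := mem_span_of_forms _ (fun u v e => sub_eq_zero.1 (hN.1 _ fun w => by simp [e]))
    (fun a b e f => ⟨a, b, by simp⟩) h

/-- Every automorphism of the projective group is semilinear. -/
theorem orth_semi (hD : 9 ≤ Module.finrank F V ∨
      ∀ W : Submodule F V, (∀ x ∈ W, Q x = 0) → Module.finrank F W ≤ 3)
    (h7 : 7 ≤ Module.finrank F V) (a : MulAut (siegelGroup Q ⧸ Subgroup.center (siegelGroup Q))) :
    Semi F (siegelGroup Q) (fun v : V => v ≠ 0 ∧ Q v = 0) (fun v => bil Q v) a := by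
  obtain ⟨G, s, c, hc, hinj, hsl, hQ, hG⟩ := AutPOmega.exists_semilinear hN h7 hD a
  have hbil : ∀ x y, bil Q (G x) (G y) = c * s (bil Q x y) := by
    intro x y
    have h1 := quad_add (Q := Q) (G x) (G y)
    rw [← map_add, hQ, hQ, hQ, quad_add, map_add, map_add] at h1
    linear_combination -h1
  refine ⟨G, s, hinj, hsl, fun x hx => ⟨fun h => hx.1 (hinj (h.trans (map_zero G).symm)), ?_⟩,
    fun x y h => ?_, fun k => ?_⟩
  · rw [hQ, hx.2, map_zero, mul_zero]
  · show bil Q (G x) (G y) = 0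
    rw [hbil, show bil Q x y = 0 from h, map_zero, mul_zero]
  obtain ⟨g, hg⟩ := k
  obtain ⟨g', hg', h'⟩ : ∃ g' ∈ siegelGroup Q, ∀ x, g' • G x = G (g • x) := by
    change g ∈ Subgroup.closure (siegelSet Q) at hg
    induction hg using Subgroup.closure_induction with
    | mem g hg =>
      obtain ⟨u, w, hu, hw, rfl⟩ := hg
      refine ⟨siegel (u := G u) (w := c⁻¹ • G w) (by rw [hQ, hu, map_zero, mul_zero])
        (by rw [map_smul, hbil, hw, map_zero, mul_zero, smul_zero]), siegel_mem _ _, fun x => ?_⟩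
      simp only [siegel_smul, map_smul, hbil, quad_smul_vec, hQ, smul_eq_mul, map_sub, map_add, hsl,
        map_mul, smul_smul]
      match_scalars <;> field_simp
    | one => exact ⟨1, one_mem _, fun x => by rw [one_smul, one_smul]⟩
    | mul g k _ _ hg hk =>
      obtain ⟨g', hg', h1⟩ := hg
      obtain ⟨k', hk', h2⟩ := hk
      exact ⟨g' * k', mul_mem hg' hk', fun x => by rw [mul_smul, h2, h1, mul_smul]⟩
    | inv g _ hg =>
      obtain ⟨g', hg', h1⟩ := hg
      exact ⟨g'⁻¹, inv_mem hg', fun x => by rw [inv_smul_eq_iff, h1, smul_inv_smul]⟩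
  exact ⟨⟨g', hg'⟩, hG _ _ h', h'⟩

theorem noType_siegel (hD : 9 ≤ Module.finrank F V ∨
      ∀ W : Submodule F V, (∀ x ∈ W, Q x = 0) → Module.finrank F W ≤ 3)
    (h7 : 7 ≤ Module.finrank F V) (p : ℕ) [Fact p.Prime] [CharP F p] :
    NoType p (siegelGroup Q ⧸ Subgroup.center (siegelGroup Q)) := by
  haveI : Finite V := Module.finite_of_finite F
  haveI : Finite (V ≃ₗ[F] V) := Finite.of_injective _ DFunLike.coe_injective
  obtain ⟨e, he0, he⟩ := exists_singular' hN h5
  obtain ⟨y, hy, h1, -⟩ := orth_exists_nonorth hN h5 he0 he0 he he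
  obtain ⟨f, hf0, hf, hef⟩ := exists_singular (Q := Q) ![bil Q e, bil Q y]
    (by rw [Fintype.card_fin]; omega)
  refine noType_point (orth_polarHyp hN h5) p ⟨e, f, ⟨he0, he⟩, ⟨hf0, hf⟩, hef 0, ?_⟩
    (orth_semi hN h5 hD h7)
  rintro ⟨a, rfl⟩
  have h2 : bil Q y (a • e) = 0 := hef 1
  rw [map_smul, bil_comm, smul_eq_mul, mul_eq_zero, or_iff_left h1] at h2
  exact hf0 (by rw [h2, zero_smul])

end orthogonal

section families

variable {p : ℕ} [Fact p.Prime] {F : Type} [Field F] [Fintype F] [CharP F p]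

theorem noType_psp {m : ℕ} (hm : 2 ≤ m) (h4 : m = 2 → p ≠ 2) : NoType p (Cfsg.PSp m F) := by
  haveI := nontrivial_symplectic_space (F := F) (m := m) (by omega)
  haveI := finite_linearEquiv (F := F) (V := Fin m ⊕ Fin m → F)
  set E := centerQuotientCongr (symplecticEquiv (m := m) (F := F))
  obtain ⟨e, he⟩ := exists_ne (0 : Fin m ⊕ Fin m → F)
  obtain ⟨f, hf, hfl⟩ := exists_forall_eq_zero_notMem ![sympBilin m F e] (Submodule.span F {e})
    (by rw [finrank_span_singleton he, Fintype.card_fin, Module.finrank_fintype_fun_eq_card,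
      Fintype.card_sum, Fintype.card_fin]; omega)
  refine (noType_point (sp_polarHyp (sympBilin_isAlt (m := m) (F := F)) sympBilin_nondegenerate) p
    ⟨e, f, he, fun h => hfl (by rw [h]; exact zero_mem _), hf 0, fun h => hfl (mem_line.2 h)⟩ fun a => ?_).of_equiv E
  obtain ⟨g, σ, hgσ⟩ := AutPSp.exists_decomposition hm p h4 ((E.trans a).trans E.symm)
  set M : Matrix (Fin m ⊕ Fin m) (Fin m ⊕ Fin m) F :=
    ((g.1 : GL (Fin m ⊕ Fin m) F) : Matrix (Fin m ⊕ Fin m) (Fin m ⊕ Fin m) F)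
  set M' : Matrix (Fin m ⊕ Fin m) (Fin m ⊕ Fin m) F :=
    ((g.1⁻¹ : GL (Fin m ⊕ Fin m) F) : Matrix (Fin m ⊕ Fin m) (Fin m ⊕ Fin m) F)
  have hinv : ∀ x, M' *ᵥ (M *ᵥ x) = x := fun x => by
    simp [M, M', Matrix.mulVec_mulVec]
  have hinj : ∀ x y : Fin m ⊕ Fin m → F, M *ᵥ (σ ∘ x) = M *ᵥ (σ ∘ y) → x = y := fun x y h => by
    have := congrArg (M' *ᵥ ·) h
    simp only [hinv] at this
    exact funext fun i => σ.injective (congrFun this i)
  refine ⟨{ toFun := fun x => M *ᵥ (σ ∘ x), map_zero' := ?_, map_add' := fun x y => ?_ }, σ,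
    fun x y h => hinj x y h, fun c x => ?_, fun x hx h => hx (hinj x 0 ?_), fun x y h => ?_, fun k => ?_⟩
  · simp [show (σ ∘ (0 : Fin m ⊕ Fin m → F)) = 0 from funext fun i => map_zero σ]
  · simp [show σ ∘ (x + y) = σ ∘ x + σ ∘ y from funext fun i => map_add σ _ _, Matrix.mulVec_add]
  · show M *ᵥ (σ ∘ (c • x)) = σ c • M *ᵥ (σ ∘ x)
    rw [show σ ∘ (c • x) = σ c • (σ ∘ x) from funext fun i => map_mul σ _ _, Matrix.mulVec_smul]
  · rw [show (σ ∘ (0 : Fin m ⊕ Fin m → F)) = 0 from funext fun i => map_zero σ, Matrix.mulVec_zero]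
    exact h
  · obtain ⟨c, hc⟩ := g.2
    show sympBilin m F (M *ᵥ (σ ∘ x)) (M *ᵥ (σ ∘ y)) = 0
    rw [sympBilin_apply, hc, ← Forms.sympB_apply (σ ∘ x) (σ ∘ y), AutPSp.B_map σ x y, Forms.sympB_apply,
      ← sympBilin_apply, show sympBilin m F x y = 0 from h, map_zero, mul_zero]
  · obtain ⟨s, rfl⟩ := (symplecticEquiv (m := m) (F := F)).surjective k
    refine ⟨symplecticEquiv (AutPSp.cSp g (AutPSp.fieldS σ s)), ?_, fun x => ?_⟩
    · have h := congrArg E (DFunLike.congr_fun hgσ (QuotientGroup.mk s))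
      rw [MulEquiv.trans_apply, MulEquiv.apply_symm_apply] at h
      exact h
    · show symplecticEquiv _ • (M *ᵥ (σ ∘ x)) = M *ᵥ (σ ∘ (symplecticEquiv s • x))
      rw [symplecticEquiv_smul, symplecticEquiv_smul, AutPSp.cSp_coe, AutPSp.fieldS_coe,
        ← Matrix.mulVec_mulVec, hinv, ← Matrix.mulVec_mulVec]
      exact congrArg _ (funext fun i => (RingHom.map_mulVec σ.toRingHom _ x i).symm)

omit [Fact p.Prime] [CharP F p] in
theorem twoType_psp_two [Fact (Nat.Prime 2)] [CharP F 2] (hq : 4 ≤ Fintype.card F) :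
    TwoType 2 (Cfsg.PSp 2 F) := by
  obtain ⟨a, ha, ha1⟩ := exists_sq_ne_one F hq
  have hF : ∃ a : F, a ≠ 0 ∧ a ≠ 1 := ⟨a, ha, fun h => ha1 (by rw [h, mul_one])⟩
  obtain ⟨e⟩ := B2Iso.nonempty_iso hF
  let e₀ : Cfsg.Omega F (Cfsg.quadFormOdd 2 F) ≃* Matrix.symplecticGroup (Fin 2) F :=
    (oddEquivSymp.subgroupMap _).trans ((MulEquiv.subgroupCongr ((map_commutator_top oddEquivSymp).trans
      (symplectic_commutator_eq_top (Or.inr (Or.inr hq))))).trans Subgroup.topEquiv)
  have hD : Cfsg.Lie.chevB2 ∈ [Cfsg.Lie.chevG2, Cfsg.Lie.chevB2, Cfsg.Lie.chevD4, Cfsg.Lie.chevF4,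
      Cfsg.Lie.chevE6, Cfsg.Lie.chevE7, Cfsg.Lie.chevE8] := by simp
  exact (twoType_chev (Chev.good_of_mem hD) hD (by decide +kernel)).of_equiv
    ((centerQuotientCongr e₀).symm.trans e.symm)

theorem oneType_psl_two (h4 : 4 ≤ Fintype.card F) :
    OneType p (Matrix.ProjectiveSpecialLinearGroup (Fin 2) F) := by
  haveI := nontrivial_symplectic_space (F := F) (m := 1) le_rfl
  haveI := finite_linearEquiv (F := F) (V := Fin 1 ⊕ Fin 1 → F)
  obtain ⟨e⟩ := exists_sl_two_equiv_symplectic (F := F)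
  have hs : IsSimpleGroup (Cfsg.PSp 1 F) := PSp_isSimpleGroup le_rfl (Or.inr (Or.inr h4))
  haveI : IsSimpleGroup (SpB (sympBilin 1 F) ⧸ Subgroup.center (SpB (sympBilin 1 F))) :=
    isSimpleGroup_of_equiv (centerQuotientCongr (symplecticEquiv (m := 1) (F := F))).symm
  obtain ⟨z, hz⟩ := exists_ne (0 : Fin 1 ⊕ Fin 1 → F)
  exact (oneType_point (sp_pointHyp sympBilin_isAlt sympBilin_nondegenerate hz)
    (fun x hx => sp_pointHyp sympBilin_isAlt sympBilin_nondegenerate hx)
    (by simp) p).of_equiv (centerQuotientCongr e)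

theorem oneType_psu_three {q : ℕ} (hF : Fintype.card F = q ^ 2) (hq : q ≠ 2) :
    OneType p (Cfsg.PSU 3 F q) := by
  have h3 : 3 ≤ Module.finrank F (Fin 3 → F) := by simp
  haveI := finite_linearEquiv (F := F) (V := Fin 3 → F)
  have hs : IsSimpleGroup (Cfsg.PSU 3 F q) := PSU_isSimpleGroup hF le_rfl (fun h => hq h.2)
  haveI : IsSimpleGroup (SUH (Forms.hermB hF 3) ⧸ Subgroup.center (SUH (Forms.hermB hF 3))) :=
    isSimpleGroup_of_equiv (centerQuotientCongr (suEquiv hF (n := 3))).symm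
  obtain ⟨z, hz0, hz⟩ := exists_isotropic (hermB_isUnitary hF) h3
  exact (oneType_point (unit_pointHyp (hermB_isUnitary hF) h3 hz0 hz)
    (fun x hx => unit_pointHyp (hermB_isUnitary hF) h3 hx.1 hx.2) (by simp) p).of_equiv
    (centerQuotientCongr (suEquiv hF))

theorem noType_psu {n q : ℕ} (hF : Fintype.card F = q ^ 2) (hn : 4 ≤ n) :
    NoType p (Cfsg.PSU n F q) := by
  have h3 : 3 ≤ Module.finrank F (Fin n → F) := by simp; omega
  haveI := finite_linearEquiv (F := F) (V := Fin n → F)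
  have hh := hermB_isUnitary hF (n := n)
  obtain ⟨e, f, he, hf, hef, hl⟩ := unit_exists_line hh h3 (by simp; omega)
  refine (noType_point (unit_polarHyp hh h3) p ⟨e, f, he, hf, hef, hl⟩ fun a => ?_).of_equiv
    (centerQuotientCongr (suEquiv hF))
  obtain ⟨Ψ, τ, hadd, hsl, hform, hall⟩ := AutPSU.exists_semilinear (p := p) hh hF
    (Forms.qEnd_apply hF) h3 (fun h => by simp at h; omega) a
  have hinj : Function.Injective Ψ := fun x y h => sub_eq_zero.1 (hh.sep _ fun w => τ.injective (by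
    rw [map_sub, LinearMap.sub_apply, map_sub, ← hform, ← hform, h, sub_self, map_zero]))
  refine ⟨AddMonoidHom.mk' Ψ hadd, τ, hinj, hsl, fun x hx => ⟨fun h => hx.1 (hinj ?_), ?_⟩,
    fun x y h => ?_, fun k => ?_⟩
  · exact h.trans (AddMonoidHom.mk' Ψ hadd).map_zero.symm
  · show Forms.hermB hF n (Ψ x) (Ψ x) = 0
    rw [hform, hx.2, map_zero]
  · show Forms.hermB hF n (Ψ x) (Ψ y) = 0
    rw [hform, show Forms.hermB hF n x y = 0 from h, map_zero]
  · obtain ⟨k', hk', hka⟩ := hall k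
    exact ⟨k', hka, hk'⟩

variable {ι : Type} [Fintype ι] [DecidableEq ι]

theorem noType_pomega (Q : QuadraticForm F (ι → F)) (hN : (bil Q).Nondegenerate)
    (h7 : 7 ≤ Fintype.card ι) (hD : 9 ≤ Module.finrank F (ι → F) ∨
      ∀ W : Submodule F (ι → F), (∀ x ∈ W, Q x = 0) → Module.finrank F W ≤ 3) :
    NoType p (Cfsg.POmega F ⇑Q) := by
  have h7' : 7 ≤ Module.finrank F (ι → F) := by rwa [Module.finrank_fintype_fun_eq_card]
  let e : Cfsg.Omega F ⇑Q ≃* siegelGroup Q :=
    ((isometryEquiv Q).subgroupMap _).trans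
      (MulEquiv.subgroupCongr ((map_commutator_top (isometryEquiv Q)).trans
        (commutator_eq_siegelGroup hN (by omega))))
  exact (noType_siegel hN (by omega) hD h7' p).of_equiv (centerQuotientCongr e)

theorem noType_pomega_odd {m : ℕ} (hm : 3 ≤ m) (hodd : Odd (Fintype.card F)) :
    NoType p (Cfsg.POmega F (Cfsg.quadFormOdd m F)) := by
  have h2 : (2 : F) ≠ 0 := by
    intro h2
    have : CharP F 2 := CharTwo.of_one_ne_zero_of_two_eq_zero one_ne_zero h2
    have hd : 2 ∣ Fintype.card F :=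
      (CharP.cast_eq_zero_iff F 2 _).1 (FiniteField.cast_card_eq_zero F)
    exact Nat.not_even_iff_odd.2 hodd (even_iff_two_dvd.2 hd)
  rw [← show ⇑(Forms.quadOdd m F) = Cfsg.quadFormOdd m F from funext Forms.quadOdd_apply]
  have hd : Module.finrank F (Unit ⊕ (Fin m ⊕ Fin m) → F) = 2 * m + 1 := by
    rw [Module.finrank_fintype_fun_eq_card]; simp; omega
  refine noType_pomega _ (Forms.quadOdd_nondegenerate h2 m)
    (by simp only [Fintype.card_sum, Fintype.card_unique, Fintype.card_fin]; omega) ?_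
  by_cases h4 : 4 ≤ m
  · exact Or.inl (by omega)
  · refine Or.inr fun W hW => ?_
    have := AutPOmega.finrank_singular_le (Forms.quadOdd_nondegenerate h2 m) W hW
    omega

theorem noType_pomega_plus {m : ℕ} (hm : 4 ≤ m) :
    NoType p (Cfsg.POmega F (Cfsg.quadFormPlus m F)) := by
  rcases hm.eq_or_lt with rfl | hm
  · obtain ⟨e⟩ := D4Iso.nonempty_iso (F := F)
    exact noType_D4.of_equiv e.symm
  rw [← show ⇑(Forms.quadPlus m F) = Cfsg.quadFormPlus m F from funext Forms.quadPlus_apply]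
  exact noType_pomega _ (Forms.quadPlus_nondegenerate m)
    (by simp only [Fintype.card_sum, Fintype.card_fin]; omega)
    (Or.inl (by simp; omega))

theorem noType_pomega_minus {m : ℕ} (hm : 4 ≤ m) {a b : F}
    (hab : ∀ z₁ z₂ : F, z₁ ^ 2 + a * z₁ * z₂ + b * z₂ ^ 2 = 0 → z₁ = 0 ∧ z₂ = 0) :
    NoType p (Cfsg.POmega F (Cfsg.quadFormMinus (m - 1) F a b)) := by
  rw [← show ⇑(Forms.quadMinus (m - 1) F a b) = Cfsg.quadFormMinus (m - 1) F a b from
    funext Forms.quadMinus_apply]
  exact noType_pomega _ (Forms.quadMinus_nondegenerate (m - 1) hab)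
    (by simp only [Fintype.card_sum, Fintype.card_fin]; omega)
    (AutPOmega.witt_minus (m := m - 1) (by omega) hab)

end families

end Cfsg.Agent.PMinLie
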