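import Mathlib.GroupTheory.PGroup
import Mathlib.GroupTheory.Index
import Mathlib.GroupTheory.Sylow

/-!
The situation inside the socle of an almost simple `p`-minimal group: a `p`-group of automorphisms fixing a
Sylow subgroup `U` and the largest proper invariant overgroup of `U`.
-/

set_option autoImplicit false

namespace Cfsg.Agent.PMinLie

variable {K : Type*} [Group K]

/-- `M₀` is proper and contains every invariant proper overgroup of `U`. -/
structure Ctx (p : ℕ) (U : Subgroup K) (A : Subgroup (MulAut K)) (M₀ : Subgroup K) : Prop where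
  isPGroup : IsPGroup p U
  index : ¬ p ∣ U.index
  isPGroupA : IsPGroup p A
  fixU : ∀ a ∈ A, ∀ u ∈ U, a u ∈ U
  inner : ∀ u ∈ U, MulAut.conj u ∈ A
  le : U ≤ M₀
  ne_top : M₀ ≠ ⊤
  inv : ∀ a ∈ A, ∀ y ∈ M₀, a y ∈ M₀
  max : ∀ Y : Subgroup K, U ≤ Y → Y ≠ ⊤ → (∀ a ∈ A, ∀ y ∈ Y, a y ∈ Y) → Y ≤ M₀

/-- Some automorphism in `A` is not conjugation by an element of `U`. -/
def Outer (U : Subgroup K) (A : Subgroup (MulAut K)) : Prop :=
  ∃ a ∈ A, ∀ u ∈ U, a ≠ MulAut.conj u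

/-- Only the normaliser of `U` is invariant. -/
def OneType (p : ℕ) (K : Type*) [Group K] : Prop :=
  ∀ (U : Subgroup K) (A : Subgroup (MulAut K)) (M₀ : Subgroup K), Ctx p U A M₀ →
    M₀ ≤ Subgroup.normalizer (U : Set K)

/-- The automorphisms exchange two classes of parabolic subgroups. -/
def TwoType (p : ℕ) (K : Type*) [Group K] : Prop :=
  ∀ (U : Subgroup K) (A : Subgroup (MulAut K)) (M₀ : Subgroup K), Ctx p U A M₀ →
    M₀ ≤ Subgroup.normalizer (U : Set K) ∧ p = 2 ∧ Outer U A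

/-- The situation does not occur. -/
def NoType (p : ℕ) (K : Type*) [Group K] : Prop :=
  ∀ (U : Subgroup K) (A : Subgroup (MulAut K)) (M₀ : Subgroup K), ¬ Ctx p U A M₀

variable {H : Type*} [Group H] {p : ℕ}

theorem congr_apply (e : K ≃* H) (a : MulAut K) (x : K) : MulAut.congr e a (e x) = e (a x) := by
  simp [MulAut.congr]

theorem Ctx.map {U : Subgroup K} {A : Subgroup (MulAut K)} {M₀ : Subgroup K} (h : Ctx p U A M₀)
    (e : K ≃* H) :
    Ctx p (U.map e.toMonoidHom) (A.map (MulAut.congr e).toMonoidHom) (M₀.map e.toMonoidHom) where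
  isPGroup := h.isPGroup.map _
  index := by
    rw [show e.toMonoidHom = (↑e : K →* H) from rfl, Subgroup.index_map_equiv]
    exact h.index
  isPGroupA := h.isPGroupA.map _
  fixU := by
    rintro _ ⟨a, ha, rfl⟩ _ ⟨u, hu, rfl⟩
    exact ⟨a u, h.fixU a ha u hu, (congr_apply e a u).symm⟩
  inner := by
    rintro _ ⟨u, hu, rfl⟩
    refine ⟨MulAut.conj u, h.inner u hu, MulEquiv.ext fun y => ?_⟩
    obtain ⟨x, rfl⟩ := e.surjective y
    show MulAut.congr e (MulAut.conj u) (e x) = MulAut.conj (e u) (e x)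
    rw [congr_apply]
    simp
  le := Subgroup.map_mono h.le
  ne_top := fun e' => h.ne_top (Subgroup.map_injective (f := e.toMonoidHom) e.injective (by
    rw [e', Subgroup.map_top_of_surjective e.toMonoidHom e.surjective]))
  inv := by
    rintro _ ⟨a, ha, rfl⟩ _ ⟨y, hy, rfl⟩
    exact ⟨a y, h.inv a ha y hy, (congr_apply e a y).symm⟩
  max := by
    intro Y hY hne hinv y hy
    obtain ⟨x, rfl⟩ := e.surjective y
    refine ⟨x, h.max (Y.comap e.toMonoidHom) (fun u hu => hY ⟨u, hu, rfl⟩) (fun e' => hne ?_)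
      (fun a ha z hz => ?_) hy, rfl⟩
    · exact Subgroup.comap_injective (f := e.toMonoidHom) e.surjective (by rw [e', Subgroup.comap_top])
    · show e (a z) ∈ Y
      rw [← congr_apply e a z]
      exact hinv _ ⟨a, ha, rfl⟩ _ hz

theorem le_normalizer_of_map (e : K ≃* H) {U M₀ : Subgroup K}
    (h : M₀.map e.toMonoidHom ≤ Subgroup.normalizer (U.map e.toMonoidHom : Set H)) :
    M₀ ≤ Subgroup.normalizer (U : Set K) := by
  intro x hx
  have h1 := h ⟨x, hx, rfl⟩
  refine Subgroup.mem_normalizer_iff.2 fun y => ?_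
  have h2 := Subgroup.mem_normalizer_iff.1 h1 (e y)
  rw [MulEquiv.coe_toMonoidHom, ← map_inv, ← map_mul, ← map_mul] at h2
  exact ((Subgroup.mem_map_iff_mem e.injective).symm.trans h2).trans (Subgroup.mem_map_iff_mem e.injective)

theorem OneType.of_equiv (h : OneType p H) (e : K ≃* H) : OneType p K :=
  fun _ _ _ hc => le_normalizer_of_map e (h _ _ _ (hc.map e))

theorem NoType.of_equiv (h : NoType p H) (e : K ≃* H) : NoType p K :=
  fun _ _ _ hc => h _ _ _ (hc.map e)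

theorem TwoType.of_equiv (h : TwoType p H) (e : K ≃* H) : TwoType p K := by
  intro U A M₀ hc
  obtain ⟨h1, h2, b, ⟨a, ha, rfl⟩, hb⟩ := h _ _ _ (hc.map e)
  refine ⟨le_normalizer_of_map e h1, h2, a, ha, fun u hu he => hb (e u) ⟨u, hu, rfl⟩ ?_⟩
  refine MulEquiv.ext fun y => ?_
  obtain ⟨x, rfl⟩ := e.surjective y
  show MulAut.congr e a (e x) = MulAut.conj (e u) (e x)
  rw [congr_apply, he]
  simp

namespace Ctx

variable {U : Subgroup K} {A : Subgroup (MulAut K)} {M₀ : Subgroup K} (h : Ctx p U A M₀)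
include h

/-- Invariant proper overgroups lie in a common proper subgroup. -/
theorem false_of_two {Y₁ Y₂ : Subgroup K} (h₁ : U ≤ Y₁) (h₂ : U ≤ Y₂) (hn₁ : Y₁ ≠ ⊤) (hn₂ : Y₂ ≠ ⊤)
    (hi₁ : ∀ a ∈ A, ∀ y ∈ Y₁, a y ∈ Y₁) (hi₂ : ∀ a ∈ A, ∀ y ∈ Y₂, a y ∈ Y₂)
    (hjoin : ∀ Y : Subgroup K, Y₁ ≤ Y → Y₂ ≤ Y → Y = ⊤) : False :=
  h.ne_top (hjoin M₀ (h.max Y₁ h₁ hn₁ hi₁) (h.max Y₂ h₂ hn₂ hi₂))

theorem map_U [Finite K] {a : MulAut K} (ha : a ∈ A) : U.map a.toMonoidHom = U :=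
  Subgroup.eq_of_le_of_card_ge (fun _ ⟨u, hu, e⟩ => e ▸ h.fixU a ha u hu)
    (Subgroup.card_map_of_injective (f := a.toMonoidHom) a.injective).ge

/-- An automorphism maps an overgroup of `U` to an overgroup of `U`. -/
theorem le_map [Finite K] {a : MulAut K} (ha : a ∈ A) {Y : Subgroup K} (hY : U ≤ Y) :
    U ≤ Y.map a.toMonoidHom :=
  (h.map_U ha).ge.trans (Subgroup.map_mono hY)

omit h in
theorem map_ne_top {a : MulAut K} {Y : Subgroup K} (hY : Y ≠ ⊤) : Y.map a.toMonoidHom ≠ ⊤ := fun e =>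
  hY (Subgroup.map_injective (f := a.toMonoidHom) a.injective (by
    rw [e, Subgroup.map_top_of_surjective a.toMonoidHom a.surjective]))

end Ctx

/-- Two subgroups exchanged by an element of a `p`-group of automorphisms force `p = 2`. -/
theorem eq_two_of_swap [Fact p.Prime] {A : Subgroup (MulAut K)} (hA : IsPGroup p A) {a : MulAut K}
    (ha : a ∈ A) {P Q : Subgroup K} (hPQ : P ≠ Q) (h1 : P.map a.toMonoidHom = Q)
    (h2 : Q.map a.toMonoidHom = P) : p = 2 := by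
  obtain ⟨k, hk⟩ := hA ⟨a, ha⟩
  by_contra hp
  have hodd : Odd (p ^ k) := ((Fact.out : p.Prime).odd_of_ne_two hp).pow
  obtain ⟨j, hj⟩ := hodd
  have hsq : ∀ i : ℕ, P.map (a ^ (2 * i)).toMonoidHom = P := by
    intro i
    induction i with
    | zero => exact Subgroup.map_id P
    | succ i ih =>
      have e : (a ^ (2 * (i + 1))).toMonoidHom =
          a.toMonoidHom.comp (a.toMonoidHom.comp (a ^ (2 * i)).toMonoidHom) := by
        ext x
        rw [show 2 * (i + 1) = 1 + (1 + 2 * i) by omega, pow_add, pow_add, pow_one]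
        rfl
      rw [e, ← Subgroup.map_map, ← Subgroup.map_map, ih, h1, h2]
  have e : (a ^ p ^ k).toMonoidHom = a.toMonoidHom.comp (a ^ (2 * j)).toMonoidHom := by
    ext x
    rw [hj, add_comm, pow_add, pow_one]
    rfl
  have hone : a ^ p ^ k = 1 := congrArg Subtype.val hk
  refine hPQ ?_
  calc P = P.map (a ^ p ^ k).toMonoidHom := by rw [hone]; exact (Subgroup.map_id P).symm
    _ = Q := by rw [e, ← Subgroup.map_map, hsq, h1]

/-- An automorphism moving an overgroup of `U` is not conjugation by an element of `U`. -/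
theorem outer_of_move {U : Subgroup K} {A : Subgroup (MulAut K)} {a : MulAut K} (ha : a ∈ A)
    {P : Subgroup K} (hP : U ≤ P) (h : P.map a.toMonoidHom ≠ P) : Outer U A := by
  refine ⟨a, ha, fun u hu e => h ?_⟩
  subst e
  ext x
  simp only [Subgroup.mem_map, MulEquiv.coe_toMonoidHom, MulAut.conj_apply]
  constructor
  · rintro ⟨y, hy, rfl⟩
    exact P.mul_mem (P.mul_mem (hP hu) hy) (P.inv_mem (hP hu))
  · intro hx
    exact ⟨u⁻¹ * x * u, P.mul_mem (P.mul_mem (P.inv_mem (hP hu)) hx) (hP hu), by group⟩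

/-- Two subgroups covering all proper overgroups of `U` and meeting in its normaliser. -/
theorem Ctx.rankTwo [Finite K] [Fact p.Prime] {U : Subgroup K} {A : Subgroup (MulAut K)}
    {M₀ : Subgroup K} (h : Ctx p U A M₀) {P Q : Subgroup K} (hP : U ≤ P) (hQ : U ≤ Q) (hPt : P ≠ ⊤)
    (hQt : Q ≠ ⊤) (hPQ : ¬ P ≤ Q) (hQP : ¬ Q ≤ P)
    (hcover : ∀ Y : Subgroup K, U ≤ Y → Y ≠ ⊤ → Y ≤ P ∨ Y ≤ Q)
    (hinf : P ⊓ Q ≤ Subgroup.normalizer (U : Set K)) :
    M₀ ≤ Subgroup.normalizer (U : Set K) ∧ p = 2 ∧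
      ∃ a ∈ A, P.map a.toMonoidHom = Q ∧ Q.map a.toMonoidHom = P := by
  have hmap : ∀ a ∈ A, ∀ {R : Subgroup K}, U ≤ R → R ≠ ⊤ →
      R.map a.toMonoidHom ≤ P ∨ R.map a.toMonoidHom ≤ Q :=
    fun a ha R hR hRt => hcover _ (h.le_map ha hR) (Ctx.map_ne_top hRt)
  have hback : ∀ (a : MulAut K) {R T : Subgroup K}, R.map a.toMonoidHom ≤ T →
      R ≤ T.map (a⁻¹ : MulAut K).toMonoidHom := by
    intro a R T hRT x hx
    exact ⟨a x, hRT ⟨x, hx, rfl⟩, by simp⟩
  have hdich : ∀ a ∈ A, (P.map a.toMonoidHom = P ∧ Q.map a.toMonoidHom = Q) ∨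
      (P.map a.toMonoidHom = Q ∧ Q.map a.toMonoidHom = P) := by
    intro a ha
    have key : ∀ {R T : Subgroup K}, R.map a.toMonoidHom ≤ T → U ≤ T → T ≠ ⊤ →
        (R = P ∨ R = Q) → R.map a.toMonoidHom = T := by
      intro R T hRT hT hTt hR
      refine le_antisymm hRT ?_
      have h1 := hback a hRT
      have h3 : T.map (a⁻¹ : MulAut K).toMonoidHom ≤ R := by
        rcases hmap _ (inv_mem ha) hT hTt with h2 | h2 <;> rcases hR with rfl | rfl
        · exact h2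
        · exact absurd (h1.trans h2) hQP
        · exact absurd (h1.trans h2) hPQ
        · exact h2
      intro x hx
      exact ⟨(a⁻¹ : MulAut K) x, h3 ⟨x, hx, rfl⟩, by simp⟩
    have hinj : ∀ {R T : Subgroup K}, R.map a.toMonoidHom = T.map a.toMonoidHom → R = T :=
      fun e => Subgroup.map_injective (f := a.toMonoidHom) a.injective e
    have hne : P ≠ Q := fun e => hPQ e.le
    rcases hmap a ha hP hPt with h1 | h1 <;> rcases hmap a ha hQ hQt with h2 | h2
    · exact absurd (hinj ((key h1 hP hPt (Or.inl rfl)).trans (key h2 hP hPt (Or.inr rfl)).symm)) hne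
    · exact Or.inl ⟨key h1 hP hPt (Or.inl rfl), key h2 hQ hQt (Or.inr rfl)⟩
    · exact Or.inr ⟨key h1 hQ hQt (Or.inl rfl), key h2 hP hPt (Or.inr rfl)⟩
    · exact absurd (hinj ((key h1 hQ hQt (Or.inl rfl)).trans (key h2 hQ hQt (Or.inr rfl)).symm)) hne
  have hcoverM := hcover M₀ h.le h.ne_top
  obtain ⟨a, ha, h1, h2⟩ : ∃ a ∈ A, P.map a.toMonoidHom = Q ∧ Q.map a.toMonoidHom = P := by
    by_contra hno
    push Not at hno
    have hfix : ∀ a ∈ A, P.map a.toMonoidHom = P ∧ Q.map a.toMonoidHom = Q := fun a ha =>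
      (hdich a ha).resolve_right fun h' => hno a ha h'.1 h'.2
    have hP' := h.max P hP hPt fun a ha y hy => (hfix a ha).1.le ⟨y, hy, rfl⟩
    have hQ' := h.max Q hQ hQt fun a ha y hy => (hfix a ha).2.le ⟨y, hy, rfl⟩
    rcases hcoverM with h' | h'
    · exact hQP (hQ'.trans h')
    · exact hPQ (hP'.trans h')
  refine ⟨le_trans ?_ hinf, eq_two_of_swap h.isPGroupA ha (fun e => hPQ e.le) h1 h2, a, ha, h1, h2⟩
  have hM : M₀ ≤ M₀.map a.toMonoidHom := fun y hy =>
    ⟨(a⁻¹ : MulAut K) y, h.inv _ (inv_mem ha) y hy, by simp⟩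
  rcases hcoverM with h' | h'
  · exact le_inf h' (hM.trans ((Subgroup.map_mono h').trans h1.le))
  · exact le_inf (hM.trans ((Subgroup.map_mono h').trans h2.le)) h'

end Cfsg.Agent.PMinLie

namespace Cfsg.Agent.PMinLie

variable {K : Type*} [Group K] {p : ℕ}

/-- All Sylow subgroups being conjugate, one of them suffices. -/
theorem Ctx.exists_of_sylow [Finite K] [Fact p.Prime] {U : Subgroup K} {A : Subgroup (MulAut K)}
    {M₀ : Subgroup K} (h : Ctx p U A M₀) (U₀ : Sylow p K) :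
    ∃ (g : K) (A' : Subgroup (MulAut K)) (M' : Subgroup K),
      (U₀ : Subgroup K) = U.map (MulAut.conj g).toMonoidHom ∧
      M' = M₀.map (MulAut.conj g).toMonoidHom ∧ Ctx p (U₀ : Subgroup K) A' M' ∧
      (Outer (U₀ : Subgroup K) A' → Outer U A) := by
  obtain ⟨g, hg⟩ := MulAction.exists_smul_eq K (h.isPGroup.toSylow h.index) U₀
  have hU : (U₀ : Subgroup K) = U.map (MulAut.conj g).toMonoidHom := by
    rw [← hg]
    rfl
  refine ⟨g, _, _, hU, rfl, hU ▸ h.map (MulAut.conj g), ?_⟩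
  rintro ⟨_, ⟨a, ha, rfl⟩, hno⟩
  refine ⟨a, ha, fun u hu e => hno (MulAut.conj g u) (hU ▸ ⟨u, hu, rfl⟩) (MulEquiv.ext fun y => ?_)⟩
  obtain ⟨x, rfl⟩ := (MulAut.conj g).surjective y
  show MulAut.congr (MulAut.conj g) a (MulAut.conj g x) = _
  rw [congr_apply, e]
  simp [mul_assoc]

theorem oneType_of_sylow [Finite K] [Fact p.Prime] (U₀ : Sylow p K)
    (h : ∀ A M₀, Ctx p (U₀ : Subgroup K) A M₀ → M₀ ≤ Subgroup.normalizer ((U₀ : Subgroup K) : Set K)) :
    OneType p K := by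
  intro U A M₀ hc
  obtain ⟨g, A', M', hU, rfl, hc', -⟩ := hc.exists_of_sylow U₀
  exact le_normalizer_of_map (MulAut.conj g) (hU ▸ h A' _ hc')

theorem noType_of_sylow [Finite K] [Fact p.Prime] (U₀ : Sylow p K)
    (h : ∀ A M₀, ¬ Ctx p (U₀ : Subgroup K) A M₀) : NoType p K := by
  intro U A M₀ hc
  obtain ⟨g, A', M', hU, -, hc', -⟩ := hc.exists_of_sylow U₀
  exact h A' M' hc'

theorem twoType_of_sylow [Finite K] [Fact p.Prime] (U₀ : Sylow p K)
    (h : ∀ A M₀, Ctx p (U₀ : Subgroup K) A M₀ →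
      M₀ ≤ Subgroup.normalizer ((U₀ : Subgroup K) : Set K) ∧ p = 2 ∧ Outer (U₀ : Subgroup K) A) :
    TwoType p K := by
  intro U A M₀ hc
  obtain ⟨g, A', M', hU, rfl, hc', hout⟩ := hc.exists_of_sylow U₀
  obtain ⟨h1, h2, h3⟩ := h A' _ hc'
  exact ⟨le_normalizer_of_map (MulAut.conj g) (hU ▸ h1), h2, hout h3⟩

end Cfsg.Agent.PMinLie
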