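import Cfsg.Agent.Lib.PMinLie.BN
import Cfsg.Agent.Lib.RootBN.ToBNPair
import Cfsg.Agent.Lib.RootBN.AutBorel

/-!
Groups with root subgroups.
-/

set_option autoImplicit false
set_option linter.unusedSectionVars false

namespace Cfsg.Agent.PMinLie

open Cfsg Cfsg.Agent.BN
open Cfsg.Agent.RootBN (Data)
open Cfsg.Agent.RootBN.Data

variable {M : Type*} [Group M] {ι : Type*} {κ : Type*} {D : Data M ι κ} (ax : D.Axioms)
include ax

theorem normalizer_U :
    Subgroup.normalizer ((D.U.subgroupOf D.grp : Subgroup D.grp) : Set D.grp) = (bnPair ax).B := by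
  refine le_antisymm (fun g hg => ?_) fun b hb => ?_
  · refine Subgroup.mem_subgroupOf.2 (mem_B_of_normalizes ax g.2 fun u hu => ?_)
    exact (Subgroup.mem_normalizer_iff.1 hg ⟨u, B_le_grp ax (U_le_B hu)⟩).1 hu
  · have hB : ∀ {c : M}, c ∈ D.B → ∀ {u : M}, u ∈ D.U → c * u * c⁻¹ ∈ D.U :=
      fun {c} hc {u} hu => (B_conj_U ax hc).le ⟨u, hu, rfl⟩
    refine Subgroup.mem_normalizer_iff.2 fun u => ⟨fun hu => hB hb hu, fun hu => ?_⟩
    have := hB (D.B.inv_mem hb) hu
    simpa [Subgroup.mem_subgroupOf, mul_assoc] using this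

/-- The generator of a node. -/
noncomputable def node (i : κ) : (bnPair ax).S := ⟨⟨D.nn i, ax.nn_mem i⟩, i, rfl⟩

theorem node_bijective : Function.Bijective (node ax) := by
  refine ⟨fun i j h => refl_injective ax ?_, ?_⟩
  · have e : D.nn i = D.nn j := congrArg (fun x : (bnPair ax).S => ((x : D.grp) : M)) h
    exact acts_unique ax (acts_nn ax i) (e ▸ acts_nn ax j)
  · rintro ⟨g, i, hi⟩
    exact ⟨i, Subtype.ext (Subtype.ext hi.symm)⟩

theorem commute_refl_iff (i j : κ) :
    Commute (BN.refl (bnPair ax) (node ax i)) (BN.refl (bnPair ax) (node ax j)) ↔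
      D.refl i * D.refl j = D.refl j * D.refl i := by
  have hact : D.Acts ((D.nn i * D.nn j)⁻¹ * (D.nn j * D.nn i))
      ((D.refl i * D.refl j)⁻¹ * (D.refl j * D.refl i)) :=
    ((acts_nn ax i).mul (acts_nn ax j)).inv.mul ((acts_nn ax j).mul (acts_nn ax i))
  have key : Commute (BN.refl (bnPair ax) (node ax i)) (BN.refl (bnPair ax) (node ax j)) ↔
      (D.nn i * D.nn j)⁻¹ * (D.nn j * D.nn i) ∈ D.B := by
    rw [Commute, SemiconjBy, BN.refl, BN.refl, ← QuotientGroup.mk_mul, ← QuotientGroup.mk_mul, BN.mk_eq_mk]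
    exact Subgroup.mem_subgroupOf
  have hN : (D.nn i * D.nn j)⁻¹ * (D.nn j * D.nn i) ∈ D.N :=
    D.N.mul_mem (D.N.inv_mem (D.N.mul_mem (nn_mem_N i) (nn_mem_N j)))
      (D.N.mul_mem (nn_mem_N j) (nn_mem_N i))
  rw [key]
  constructor
  · intro hB
    have := acts_unique ax hact (acts_H ax ((N_inf_B ax).le ⟨hN, hB⟩))
    exact inv_mul_eq_one.1 this
  · intro he
    rw [he, inv_mul_cancel] at hact
    exact H_le_B (mem_H_of_pos_preserving ax hN hact fun r hr => by simpa using hr)

variable {p : ℕ} [Fact p.Prime] [Finite M] [Finite ι] (S : Sylow p D.grp)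
  (hS : (S : Subgroup D.grp) = D.U.subgroupOf D.grp)
include hS

theorem bnCtx {A : Subgroup (MulAut D.grp)} {M₀ : Subgroup D.grp}
    (h : Ctx p (S : Subgroup D.grp) A M₀) : BNCtx (bnPair ax) p (S : Subgroup D.grp) A M₀ :=
  ⟨h, hS ▸ normalizer_U ax⟩

theorem oneType_data [Nonempty κ] : OneType p D.grp :=
  oneType_of_sylow S fun _ _ h =>
    (bnCtx ax S hS h).le_normalizer ⟨_, (node ax (Classical.arbitrary κ)).2⟩

theorem twoType_data (h2 : Nat.card κ = 2) : TwoType p D.grp := by
  refine twoType_of_sylow S fun A M₀ h => ?_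
  have hc : Nat.card (bnPair ax).S = 2 := by
    rw [← h2, Nat.card_congr (Equiv.ofBijective _ (node_bijective ax))]
  have : Nonempty κ := (Nat.card_pos_iff.1 (by omega)).1
  exact ⟨(bnCtx ax S hS h).le_normalizer ⟨_, (node ax (Classical.arbitrary κ)).2⟩,
    (bnCtx ax S hS h).eq_two_outer hc⟩

theorem noType_of_card [Nonempty κ] (h : ∀ k : ℕ, Nat.card κ ≠ p ^ k) : NoType p D.grp := by
  refine noType_of_sylow S fun A M₀ hc => ?_
  obtain ⟨k, hk⟩ := (bnCtx ax S hS hc).card_eq_pow (node ax (Classical.arbitrary κ)).2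
  exact h k (by rw [← hk, Nat.card_congr (Equiv.ofBijective _ (node_bijective ax))])

theorem noType_of_degree (i j : κ) (h : Nat.card {k // D.refl i * D.refl k = D.refl k * D.refl i} ≠
    Nat.card {k // D.refl j * D.refl k = D.refl k * D.refl j}) : NoType p D.grp := by
  refine noType_of_sylow S fun A M₀ hc => h ?_
  have e : ∀ l, Nat.card {k // D.refl l * D.refl k = D.refl k * D.refl l} =
      Nat.card {r : (bnPair ax).S //
        Commute (BN.refl (bnPair ax) (node ax l)) (BN.refl (bnPair ax) r)} := fun l =>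
    Nat.card_congr ((Equiv.ofBijective _ (node_bijective ax)).subtypeEquiv
      fun k => (commute_refl_iff ax l k).symm)
  rw [e, e]
  exact le_antisymm ((bnCtx ax S hS hc).card_commute_eq _ _) ((bnCtx ax S hS hc).card_commute_eq _ _)

theorem noType_of_cell (i j : κ) (h : Nat.card (D.X (D.simp i)) ≠ Nat.card (D.X (D.simp j))) :
    NoType p D.grp := by
  refine noType_of_sylow S fun A M₀ hc => h ?_
  have e : ∀ l, Nat.card (cell (bnPair ax) (BN.refl (bnPair ax) (node ax l))) =
      Nat.card D.B * Nat.card (D.X (D.simp l)) := by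
    intro l
    have hcard := card_cosets_step ax (i := l) [] (by simpa using ax.pos_simp l)
    rw [wl_nil, mul_one, card_cosets_one ax, mul_one] at hcard
    have hset : D.cell (D.refl l) = (QuotientGroup.mk ⁻¹' D.cosets (D.refl l) : Set M) :=
      Set.ext fun g => mem_cosets.symm
    rw [← hcard, ← Nat.card_prod,
      ← Nat.card_congr (QuotientGroup.preimageMkEquivSubgroupProdSet D.B (D.cosets (D.refl l)))]
    have hiff : ∀ g : D.grp, g ∈ cell (bnPair ax) (BN.refl (bnPair ax) (node ax l)) ↔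
        (g : M) ∈ D.cell (D.refl l) := by
      intro g
      rw [BN.refl, cell_mk, DoubleCoset.mem_doubleCoset, mem_cell_iff ax (nn_mem_N l) (acts_nn ax l)]
      constructor
      · rintro ⟨b, hb, c, hc, rfl⟩
        exact ⟨b, hb, c, hc, rfl⟩
      · rintro ⟨b, hb, c, hc, e⟩
        exact ⟨⟨b, B_le_grp ax hb⟩, hb, ⟨c, B_le_grp ax hc⟩, hc, Subtype.ext e⟩
    refine Nat.card_congr ⟨fun g => ⟨g.1, (Set.ext_iff.1 hset _).1 ((hiff g.1).1 g.2)⟩, fun g => ⟨⟨g.1, ?_⟩, (hiff _).2 ?_⟩,
      fun g => rfl, fun g => rfl⟩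
    · have hg : (g : M) ∈ D.cell (D.refl l) := (Set.ext_iff.1 hset _).2 g.2
      exact cell_subset_grp ax [l] (by simpa using hg)
    · exact (Set.ext_iff.1 hset _).2 g.2
  have := (bnCtx ax S hS hc).card_cell_eq (node ax i) (node ax j)
  rw [e, e] at this
  exact Nat.eq_of_mul_eq_mul_left Nat.card_pos this

end Cfsg.Agent.PMinLie
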