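import Cfsg.Agent.Lib.PMinLie.Data
import Cfsg.Agent.Lib.FullOver.Exceptional
import Cfsg.Agent.Lib.Chev.AutOut
import Cfsg.Agent.Lib.Chev.Longest
import Cfsg.Agent.Lib.Chev.TwistE6Group
import Cfsg.Agent.Lib.Chev.TwistD4Group

/-!
Exceptional and twisted groups of Lie type.
-/

set_option autoImplicit false
set_option linter.unusedSectionVars false

namespace Cfsg.Agent.PMinLie

open Cfsg.Lie Cfsg.Agent.Chev Cfsg.Agent.Chev.BNSetup
open Cfsg.Agent.RootBN (Data)

variable {p : ℕ} [Fact p.Prime]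

theorem exists_sylow_grp {M : Type*} [Group M] {ι κ : Type*} {D : Data M ι κ} (G : Subgroup M)
    (hgrp : D.grp = G) (S : Sylow p G) (hS : (S : Subgroup G) = D.U.subgroupOf G) :
    ∃ S' : Sylow p D.grp, (S' : Subgroup D.grp) = D.U.subgroupOf D.grp := by
  subst hgrp
  exact ⟨S, hS⟩

theorem card_filter_eq {κ : Type*} [Fintype κ] {P Q : κ → Prop} [DecidablePred Q]
    (h : ∀ k, P k ↔ Q k) : Nat.card {k // P k} = (Finset.univ.filter Q).card := by
  rw [Nat.card_congr ((Equiv.refl κ).subtypeEquiv (q := Q) h), Nat.card_eq_fintype_card,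
    Fintype.card_subtype]

section chev

variable {F : Type*} [Field F] [Fintype F] [CharP F p] {D : ChevalleyDatum}

/-- Two fundamental reflections commute on the roots. -/
def CommN (D : ChevalleyDatum) (i j : ℕ) : Prop :=
  ∀ r < D.nroots, D.reflectRoot i (D.reflectRoot j r) = D.reflectRoot j (D.reflectRoot i r)

instance (D : ChevalleyDatum) (i j : ℕ) : Decidable (CommN D i j) :=
  inferInstanceAs (Decidable (∀ r < D.nroots, _))

theorem commN_iff (hG : Good D) (i j : Fin D.rank) :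
    (data hG F).refl i * (data hG F).refl j = (data hG F).refl j * (data hG F).refl i ↔
      CommN D i j := by
  constructor
  · intro h r hr
    exact congrArg Fin.val (Equiv.congr_fun h ⟨r, hr⟩)
  · intro h
    exact Equiv.ext fun r => Fin.ext (h r.val r.2)

theorem chev_sylow (hG : Good D) (hD : D ∈ [chevG2, chevB2, chevD4, chevF4, chevE6, chevE7, chevE8]) :
    (data hG F).Axioms ∧ ∃ S : Sylow p (data hG F).grp,
      (S : Subgroup (data hG F).grp) = (data hG F).U.subgroupOf (data hG F).grp := by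
  classical
  obtain ⟨tabs, simps, Mc, hf, -⟩ := exists_coefFacts hD
  obtain ⟨S, hS⟩ := ChevSylow.exists_sylow (F := F) p hG hf
  exact ⟨axioms hG hf, exists_sylow_grp (D.group F) (data_grp hG) S (by rw [hS, data_U hG hf])⟩

theorem twoType_chev (hG : Good D) (hD : D ∈ [chevG2, chevB2, chevD4, chevF4, chevE6, chevE7, chevE8])
    (h2 : D.rank = 2) : TwoType p (D.group F) := by
  obtain ⟨ax, S, hS⟩ := chev_sylow (F := F) (p := p) hG hD
  exact (twoType_data ax S hS (by rw [Nat.card_fin, h2])).of_equiv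
    (MulEquiv.subgroupCongr (data_grp hG).symm)

theorem noType_chev_degree (hG : Good D)
    (hD : D ∈ [chevG2, chevB2, chevD4, chevF4, chevE6, chevE7, chevE8]) (i j : Fin D.rank)
    (h : (Finset.univ.filter fun k : Fin D.rank => CommN D i k).card ≠
      (Finset.univ.filter fun k : Fin D.rank => CommN D j k).card) : NoType p (D.group F) := by
  obtain ⟨ax, S, hS⟩ := chev_sylow (F := F) (p := p) hG hD
  refine (noType_of_degree ax S hS i j ?_).of_equiv (MulEquiv.subgroupCongr (data_grp hG).symm)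
  rw [card_filter_eq (commN_iff hG i), card_filter_eq (commN_iff hG j)]
  exact h

/-- Outside characteristic three no automorphism of `G₂` fixing `U` exchanges the parabolic subgroups. -/
theorem noType_G2 (h3 : p ≠ 3) : NoType p (chevG2.group F) := by
  classical
  have hD : chevG2 ∈ [chevG2, chevB2, chevD4, chevF4, chevE6, chevE7, chevE8] := by simp
  have hG := good_of_mem hD
  obtain ⟨ax, S, hS⟩ := chev_sylow (F := F) (p := p) hG hD
  obtain ⟨tabs, simps, w0, hf, -⟩ := exists_facts_longest hD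
  have hR : chevG2.rank = 2 := g2_aut_numbers.1
  intro U A M₀ hc
  -- transport to the subgroup generated by the root subgroups
  refine (noType_of_sylow S ?_ : NoType p (data hG F).grp) _ _ _
    (hc.map (MulEquiv.subgroupCongr (data_grp hG).symm))
  intro A M₀ h
  have hb := bnCtx ax S hS h
  set P := Data.bnPair ax
  let i₀ : Fin chevG2.rank := ⟨0, by omega⟩
  let i₁ : Fin chevG2.rank := ⟨1, by omega⟩
  obtain ⟨a, ha, hmaps⟩ := hb.transitive (node ax i₀).2 (node ax i₁).2
  let e : ↥(data hG F).grp ≃* ↥(chevG2.group F) := MulEquiv.subgroupCongr (data_grp hG)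
  set θ : MulAut ↥(chevG2.group F) := (e.symm.trans a).trans e with hθ
  obtain ⟨tabs', simps', w0', hf', hw'⟩ := exists_facts_longest hD
  obtain ⟨dd, Bc, hC, hN⟩ := exists_autCerts hD
  obtain ⟨x, d, θ', ρ, s, hd, hθx, hθ'⟩ :=
    exists_nodeAut hG hf' hD hw' (negTri_of_mem hD) hC hN θ
  obtain ⟨-, σ, hσ⟩ := field_graph hD hG hf' hθ'
  have hρ : ρ = 1 := by
    rcases two_perms _ hR ρ ρ.injective with h' | h'
    · exact Equiv.ext fun i => Fin.ext (h' i)
    · exact absurd ((ringChar.eq F p).symm.trans (g2_char_three hG hf hθ' h')) h3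
  subst hρ
  obtain ⟨φf, hφf⟩ := S1080.result chevG2 hD σ
  have hfs : ∀ r < chevG2.nroots, Sends hG φf r r σ := fun r hr t =>
    eq_xG hG (hφf _ r t hr (coe_xe hG r t))
  have hfe : θ' = φf := by
    have he : ∀ i : Fin chevG2.rank, chevG2.graphExp (ringChar F) i i = 1 := fun i => by
      rw [ChevalleyDatum.graphExp]
      cases chevG2.isLong (chevG2.simple i.val) <;> rfl
    refine aut_ext_simple hG (fun i t => ?_) fun i t => ?_
    · rw [(hθ' i).1, hσ]
      simp only [Equiv.Perm.coe_one, id_eq, he, pow_one]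
      exact (hfs _ (hG.simple_lt i.2) t).symm
    · rw [(hθ' i).2, hσ]
      simp only [Equiv.Perm.coe_one, id_eq, he, pow_one]
      exact (hfs _ (hG.neg_lt (hG.simple_lt i.2)) t).symm
  obtain ⟨χ, -, hdx⟩ := diag_sends hG hD hd
  set ψ : MulAut ↥(chevG2.group F) := d * θ' with hψ
  -- `ψ` preserves each root subgroup
  have hψX : ∀ r < chevG2.nroots, ∀ t, ∃ t', ψ (xG hG r t) = xG hG r t' := by
    intro r hr t
    refine ⟨(χ r : F) * σ t, ?_⟩
    rw [hψ, hfe, MulAut.mul_apply, hfs r hr t, hdx r hr]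
  set b : MulAut ↥(data hG F).grp := (e.trans ψ).trans e.symm with hbdef
  have hbX : ∀ r, ∀ z : ↥(data hG F).grp, (z : GL chevG2.Idx F) ∈ (data hG F).X r →
      ((b z : ↥(data hG F).grp) : GL chevG2.Idx F) ∈ (data hG F).X r := by
    intro r z hz
    obtain ⟨t, ht⟩ := (mem_rootSubgroup hG r.2).1 hz
    obtain ⟨t', ht'⟩ := hψX r.val r.2 t
    have hz' : e z = xG hG r.val t := Subtype.ext ht
    show ((e.symm (ψ (e z)) : ↥(data hG F).grp) : GL chevG2.Idx F) ∈ _
    rw [hz', ht']
    exact (mem_rootSubgroup hG r.2).2 ⟨t', rfl⟩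
  have hbU : ∀ z ∈ (S : Subgroup ↥(data hG F).grp), b z ∈ (S : Subgroup ↥(data hG F).grp) := by
    have hle : (data hG F).U ≤
        (((data hG F).U.subgroupOf (data hG F).grp).comap b.toMonoidHom).map
          (data hG F).grp.subtype := by
      refine iSup₂_le fun r hr z hz => ?_
      exact ⟨⟨z, Data.X_le_grp r hz⟩, Data.X_le_U hr (hbX r _ hz), rfl⟩
    intro z hz
    rw [hS] at hz ⊢
    obtain ⟨w, hw, e'⟩ := hle hz
    obtain rfl : w = z := Subtype.ext e'
    exact hw
  have hbU' : (S : Subgroup ↥(data hG F).grp).map b.toMonoidHom = S :=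
    Subgroup.eq_of_le_of_card_ge (fun _ ⟨z, hz, e'⟩ => e' ▸ hbU z hz)
      (Subgroup.card_map_of_injective (f := b.toMonoidHom) b.injective).ge
  have hab : ∀ z, a z = e.symm x * b z * (e.symm x)⁻¹ := by
    intro z
    apply e.injective
    rw [map_mul, map_mul, map_inv, e.apply_symm_apply]
    have h1 : θ (e z) = x * ψ (e z) * x⁻¹ := hθx _
    rw [hθ] at h1
    simpa [hbdef] using h1
  -- the inner part normalises `U`
  have hxB : e.symm x ∈ P.B := by
    rw [← hb.norm]
    refine Subgroup.mem_normalizer_fintype ?_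
    intro z hz
    obtain ⟨w, hw, rfl⟩ := hbU'.ge hz
    rw [show b.toMonoidHom w = b w from rfl, ← hab]
    exact h.fixU a ha w hw
  have hbB : P.B.map b.toMonoidHom = P.B := by
    rw [← hb.norm, Subgroup.map_equiv_normalizer_eq, hbU']
  -- so it preserves the parabolic subgroup of the first node
  have hbP : b (node ax i₀).1 ∈ P.parabolic {((node ax i₀ : P.S) : ↥(data hG F).grp)} := by
    set n : ↥(data hG F).grp := ((node ax i₀ : P.S) : ↥(data hG F).grp) with hn
    set Q : Subgroup ↥(data hG F).grp := P.parabolic {n}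
    obtain ⟨y0, hy0⟩ := Subgroup.ne_bot_iff_exists_ne_one.1
      (ax.X_ne_bot ((data hG F).opp ((data hG F).simp i₀)))
    obtain ⟨a', ha', h', hh', b', hb', e'⟩ := ax.rank_one i₀ (y0 : GL chevG2.Idx F) y0.2
      (fun h => hy0 (Subtype.ext h))
    have hXB : ∀ z : ↥(data hG F).grp,
        (z : GL chevG2.Idx F) ∈ (data hG F).X ((data hG F).simp i₀) → z ∈ Q := fun z hz =>
      BN.B_le_parabolic P _ (Subgroup.mem_subgroupOf.2 (Data.X_simp_le_B ax i₀ hz))
    have hnQ : n ∈ Q := BN.subset_parabolic P _ rfl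
    have hXopp : ∀ z : ↥(data hG F).grp,
        (z : GL chevG2.Idx F) ∈ (data hG F).X ((data hG F).opp ((data hG F).simp i₀)) → z ∈ Q := by
      intro z hz
      have h1 := (Data.acts_nn ax i₀ ((data hG F).opp ((data hG F).simp i₀)) z.1).2 hz
      rw [Data.refl_opp_simp ax] at h1
      have h2 : n * z * n⁻¹ ∈ Q := hXB _ h1
      simpa [mul_assoc] using Q.mul_mem (Q.mul_mem (Q.inv_mem hnQ) h2) hnQ
    have hne : n = ⟨h', ax.H_le hh'⟩⁻¹ * (⟨a', Data.X_le_grp _ ha'⟩⁻¹ : ↥(data hG F).grp) *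
        ⟨y0, Data.X_le_grp _ y0.2⟩ * (⟨b', Data.X_le_grp _ hb'⟩⁻¹ : ↥(data hG F).grp) := by
      refine Subtype.ext ?_
      show (data hG F).nn i₀ = h'⁻¹ * a'⁻¹ * (y0 : GL chevG2.Idx F) * b'⁻¹
      rw [e']
      group
    rw [hne, map_mul, map_mul, map_mul, map_inv, map_inv, map_inv]
    refine Q.mul_mem (Q.mul_mem (Q.mul_mem (Q.inv_mem ?_) (Q.inv_mem ?_)) ?_) (Q.inv_mem ?_)
    · exact BN.B_le_parabolic P _ (hbB.le ⟨_, Subgroup.mem_subgroupOf.2 (Data.H_le_B hh'), rfl⟩)
    · exact hXB _ (hbX _ _ ha')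
    · exact hXopp _ (hbX _ _ y0.2)
    · exact hXB _ (hbX _ _ hb')
  set Q : Subgroup ↥(data hG F).grp := P.parabolic {((node ax i₀ : P.S) : ↥(data hG F).grp)}
  have hfix : Q.map a.toMonoidHom ≤ Q := by
    rintro _ ⟨z, hz, rfl⟩
    show a z ∈ Q
    rw [hab]
    have hxQ : e.symm x ∈ Q := BN.B_le_parabolic P _ hxB
    refine Q.mul_mem (Q.mul_mem hxQ ?_) (Q.inv_mem hxQ)
    have hsup : Q ≤ Q.comap b.toMonoidHom := by
      refine sup_le (fun c hc => BN.B_le_parabolic P _ (hbB.le ⟨c, hc, rfl⟩)) ?_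
      rw [Subgroup.closure_le]
      rintro _ rfl
      exact hbP
    exact hsup hz
  have hmem : ((node ax i₁ : P.S) : ↥(data hG F).grp) ∈ Q :=
    hfix (hmaps.ge (BN.subset_parabolic P _ rfl))
  have h01 := (BN.mem_parabolic_iff_of_mem_S P (Set.singleton_subset_iff.2 (node ax i₀).2)
    (node ax i₁).2).1 hmem
  exact absurd (congrArg Fin.val ((node_bijective ax).1 (Subtype.ext h01))) (by simp [i₀, i₁])

theorem noType_E6 : NoType p (chevE6.group F) := by
  have hD : chevE6 ∈ [chevG2, chevB2, chevD4, chevF4, chevE6, chevE7, chevE8] := by simp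
  have hR : chevE6.rank = 6 := by decide +kernel
  obtain ⟨ax, S, hS⟩ := chev_sylow (F := F) (p := p) (good_of_mem hD) hD
  have : Nonempty (Fin chevE6.rank) := ⟨⟨0, by omega⟩⟩
  refine (noType_of_card ax S hS fun k hk => ?_).of_equiv
    (MulEquiv.subgroupCongr (data_grp (good_of_mem hD)).symm)
  rw [Nat.card_fin, hR] at hk
  rcases k with _ | k
  · simp at hk
  · have h2 := (Nat.prime_dvd_prime_iff_eq Nat.prime_two Fact.out).1
      (Nat.prime_two.dvd_of_dvd_pow (hk ▸ (by norm_num : 2 ∣ 6)))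
    have h3 := (Nat.prime_dvd_prime_iff_eq Nat.prime_three Fact.out).1
      (Nat.prime_three.dvd_of_dvd_pow (hk ▸ (by norm_num : 3 ∣ 6)))
    omega

theorem noType_E7 : NoType p (chevE7.group F) :=
  noType_chev_degree (good_of_mem (by simp)) (by simp) ⟨0, by decide +kernel⟩ ⟨3, by decide +kernel⟩
    (by decide +kernel)

theorem noType_E8 : NoType p (chevE8.group F) :=
  noType_chev_degree (good_of_mem (by simp)) (by simp) ⟨0, by decide +kernel⟩ ⟨3, by decide +kernel⟩
    (by decide +kernel)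

theorem noType_F4 : NoType p (chevF4.group F) :=
  noType_chev_degree (good_of_mem (by simp)) (by simp) ⟨0, by decide +kernel⟩ ⟨1, by decide +kernel⟩
    (by decide +kernel)

theorem noType_D4 : NoType p (chevD4.group F) :=
  noType_chev_degree (good_of_mem (by simp)) (by simp) ⟨0, by decide +kernel⟩ ⟨1, by decide +kernel⟩
    (by decide +kernel)

end chev

section twist

theorem twist_sylow {F : Type*} [Field F] [Fintype F] [CharP F p] {D : ChevalleyDatum} (hG : Good D)
    {G : GraphTab} {O : OrbTab} {no nj : ℕ} [NeZero no] [NeZero nj] {tabs simps : List ℕ}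
    (hO : O.OK no nj D G tabs simps) (φ : F ≃+* F) (hf : Facts D tabs simps) (hn : NegTri D)
    (hcol : ∃ c, Valid D c ∧ G.colsOK D c = true) :
    (twist hG hO φ).data.Axioms ∧ ∃ S : Sylow p (twist hG hO φ).data.grp,
      (S : Subgroup (twist hG hO φ).data.grp) =
        (twist hG hO φ).data.U.subgroupOf (twist hG hO φ).data.grp := by
  classical
  set T := twist hG hO φ
  have hT : T.Axioms := twist_axioms hG hO φ hf hn hcol
  have hUp : IsPGroup p T.data.U :=
    (ChevSylow.isPGroup_posUnipotent p hG hf).to_le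
      ((RootBN.Twist.U'_le_U hT).trans (data_U hG hf).le)
  exact ⟨RootBN.Twist.data_axioms hT, Data.exists_sylow_U (RootBN.Twist.data_axioms hT) rfl hUp
    fun h hh => FullOver.eq_one_of_diagonal hG hf hh.1⟩

theorem noType_twistedE6 {K : Type} [Field K] [Fintype K] [CharP K p] {q : ℕ} (hq : IsPrimePow q)
    (hK : Fintype.card K = q ^ 2) : NoType p ↥(twistedE6 K q) := by
  classical
  obtain ⟨φ, -, hGt, hinv, hcard⟩ := exists_frob2 hq hK
  obtain ⟨ax, S, hS⟩ := twist_sylow (p := p) E6.good orbE6_ok φ facts_chevE6 negTri_chevE6 graphE6_cols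
  rw [← hGt]
  have hcomm : ∀ i k : Fin 4,
      (twist E6.good orbE6_ok φ).data.refl i * (twist E6.good orbE6_ok φ).data.refl k =
          (twist E6.good orbE6_ok φ).data.refl k * (twist E6.good orbE6_ok φ).data.refl i ↔
        ∀ o : Fin 48, orbE6.reflF 48 4 i (orbE6.reflF 48 4 k o) =
          orbE6.reflF 48 4 k (orbE6.reflF 48 4 i o) := fun i k =>
    ⟨fun h o => Equiv.congr_fun h o, fun h => Equiv.ext h⟩
  have hex : ∃ i j : Fin 4, (Finset.univ.filter fun k : Fin 4 =>
      ∀ o : Fin 48, orbE6.reflF 48 4 i (orbE6.reflF 48 4 k o) =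
        orbE6.reflF 48 4 k (orbE6.reflF 48 4 i o)).card ≠
      (Finset.univ.filter fun k : Fin 4 =>
      ∀ o : Fin 48, orbE6.reflF 48 4 j (orbE6.reflF 48 4 k o) =
        orbE6.reflF 48 4 k (orbE6.reflF 48 4 j o)).card := by
    decide +kernel
  obtain ⟨i, j, hij⟩ := hex
  refine noType_of_degree ax S hS i j ?_
  rw [card_filter_eq (hcomm i), card_filter_eq (hcomm j)]
  exact hij

theorem noType_twistedD4 {K : Type} [Field K] [Fintype K] [CharP K p] {q : ℕ} (hq : IsPrimePow q)
    (hK : Fintype.card K = q ^ 3) : NoType p ↥(twistedD4 K q) := by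
  classical
  obtain ⟨φ, -, hGt, hcube, hcard⟩ := exists_frob3 hq hK
  obtain ⟨ax, S, hS⟩ := twist_sylow (p := p) D4.good orbD4_ok φ facts_chevD4 negTri_chevD4 graphD4_cols
  rw [← hGt]
  refine noType_of_cell ax S hS 0 1 ?_
  show Nat.card ((tw3D4 φ).X' (orbD4.simpF 12 2 0)) ≠ Nat.card ((tw3D4 φ).X' (orbD4.simpF 12 2 1))
  rw [card_X'_D4 hK hcube hcard, card_X'_D4 hK hcube hcard]
  intro h
  exact absurd (Nat.pow_right_injective hq.two_le h) (by decide +kernel)

theorem noType_twistedF4 {F : Type*} [Field F] [Fintype F] [CharP F 2] {m : ℕ}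
    (hK : Fintype.card F = 2 ^ (2 * m + 1)) : NoType 2 ↥(twistedF4 F (2 ^ m)) := by
  classical
  have hUE : (Twisted.F4.gl hK).U = chevF4.posUnipotent F ⊓ twistedF4 F (2 ^ m) := by
    rw [Twisted.F4.gl, RootBN.Data.image_U, ← Twisted.F4.U_inf_twisted hK]
  have hHE : (Twisted.F4.gl hK).H ≤ chevF4.diagonalSubgroup F := by
    rintro _ ⟨h, hh, rfl⟩
    exact hh.1
  have hUp : IsPGroup 2 (Twisted.F4.gl hK).U :=
    (ChevSylow.isPGroup_posUnipotent 2 Twisted.F4.good Twisted.F4.facts).to_le (hUE.le.trans inf_le_left)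
  obtain ⟨S, hS⟩ := Data.exists_sylow_U (Twisted.F4.gl_axioms hK) rfl hUp
    fun h hh => FullOver.eq_one_of_diagonal Twisted.F4.good Twisted.F4.facts (hHE hh)
  refine (noType_of_cell (Twisted.F4.gl_axioms hK) S hS 0 1 ?_).of_equiv
    (MulEquiv.subgroupCongr (Twisted.F4.gl_grp hK).symm)
  have hX : ∀ j : Fin 2, Nat.card ((Twisted.F4.gl hK).X ((Twisted.F4.gl hK).simp j)) =
      Fintype.card F ^ (j.val + 1) := fun j => by
    rw [← Twisted.F4.card_X'_simp hK j]
    exact Subgroup.card_map_of_injective (chevF4.group F).subtype_injective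
  rw [hX, hX]
  intro h
  exact absurd (Nat.pow_right_injective Fintype.one_lt_card h) (by decide)

end twist

end Cfsg.Agent.PMinLie
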