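import Cfsg.Agent.Lib.PMinLie.Ctx
import Cfsg.Agent.Lib.FullOver.Linear
import Cfsg.Agent.Lib.GL.Sylow
import Cfsg.Agent.Lib.GL.Simple
import Cfsg.Agent.Lib.AutPSL.Main

/-!
Linear groups: invariant parabolic subgroups.
-/

set_option autoImplicit false
set_option linter.unusedSectionVars false

namespace Cfsg.Agent.PMinLie

open Matrix AutPSL
open scoped MatrixGroups

variable {n : ℕ} {F : Type*} [Field F]

local notation "SLn" => Matrix.SpecialLinearGroup (Fin n) F
local notation "PSLn" => Matrix.ProjectiveSpecialLinearGroup (Fin n) F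
local notation "π" => QuotientGroup.mk' (Subgroup.center (Matrix.SpecialLinearGroup (Fin n) F))

variable [Finite F]

/-- The block upper triangular matrices for a labelling of the coordinates. -/
def blockSub (b : Fin n → ℕ) : Subgroup SLn where
  carrier := {s | BlockTriangular s.1 b}
  one_mem' := by simpa using blockTriangular_one
  mul_mem' := fun {x y} hx hy => by
    show BlockTriangular (x * y).1 b
    rw [Matrix.SpecialLinearGroup.coe_mul]
    exact hx.mul hy
  inv_mem' := fun {x} hx => by
    show BlockTriangular (x⁻¹).1 b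
    letI : Invertible x.1 :=
      ⟨(x⁻¹).1, by rw [← Matrix.SpecialLinearGroup.coe_mul, inv_mul_cancel, Matrix.SpecialLinearGroup.coe_one],
        by rw [← Matrix.SpecialLinearGroup.coe_mul, mul_inv_cancel, Matrix.SpecialLinearGroup.coe_one]⟩
    rw [show (x⁻¹).1 = x.1⁻¹ from (Matrix.inv_eq_left_inv (by
      rw [← Matrix.SpecialLinearGroup.coe_mul, inv_mul_cancel, Matrix.SpecialLinearGroup.coe_one])).symm]
    exact blockTriangular_inv_of_blockTriangular hx

theorem mem_blockSub {b : Fin n → ℕ} {s : SLn} :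
    s ∈ blockSub b ↔ ∀ i j, b j < b i → s.1 i j = 0 :=
  ⟨fun h i j hij => h hij, fun h i j hij => h i j hij⟩

theorem center_le_blockSub (b : Fin n → ℕ) : Subgroup.center SLn ≤ blockSub b := fun z hz => by
  obtain ⟨r, -, hr⟩ := Matrix.SpecialLinearGroup.mem_center_iff.1 hz
  refine mem_blockSub.2 fun i j hij => ?_
  rw [← hr, Matrix.scalar_apply, Matrix.diagonal_apply_ne]
  rintro rfl
  exact hij.false

theorem borelSL_le_blockSub {b : Fin n → ℕ} (hb : Monotone b) : GL.borelSL n F ≤ blockSub b :=
  fun s hs => mem_blockSub.2 fun i j hij => by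
    have : j < i := lt_of_not_ge fun h => (hb h).not_gt hij
    simpa using hs i j this

theorem unitriangularSL_le_blockSub {b : Fin n → ℕ} (hb : Monotone b) :
    GL.unitriangularSL n F ≤ blockSub b :=
  (Subgroup.comap_mono GL.unitriangular_le_borel).trans (borelSL_le_blockSub hb)

theorem transvection_mem_blockSub {b : Fin n → ℕ} {i j : Fin n} (hij : i ≠ j) (h : b i ≤ b j) (c : F) :
    Matrix.SpecialLinearGroup.transvection hij c ∈ blockSub b := by
  refine mem_blockSub.2 fun k l hkl => ?_
  rw [Matrix.SpecialLinearGroup.transvection_coe, Matrix.add_apply, Matrix.one_apply_ne, zero_add,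
    Matrix.single_apply]
  · refine if_neg fun hh => ?_
    rw [← hh.1, ← hh.2] at hkl
    omega
  · rintro rfl
    exact hkl.false

theorem comap_map_blockSub (b : Fin n → ℕ) :
    ((blockSub b).map π).comap π = blockSub (F := F) b :=
  Subgroup.comap_map_eq_self (by rw [QuotientGroup.ker_mk']; exact center_le_blockSub b)

theorem transvection_notMem {b : Fin n → ℕ} {i j : Fin n} (hij : i ≠ j) (h : b j < b i) :
    Matrix.SpecialLinearGroup.transvection hij (1 : F) ∉ blockSub b := fun hm => by
  have := mem_blockSub.1 hm i j h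
  simp [Matrix.SpecialLinearGroup.transvection_coe, hij] at this

theorem map_blockSub_ne_top {b : Fin n → ℕ} {i j : Fin n} (h : b j < b i) :
    (blockSub (F := F) b).map π ≠ ⊤ := fun e => by
  have hij : i ≠ j := fun e => by rw [e] at h; exact h.false
  refine transvection_notMem (F := F) hij h ?_
  rw [← comap_map_blockSub b, e, Subgroup.comap_top]
  exact Subgroup.mem_top _

/-- The permutation reversing the coordinates. -/
def revGL (n : ℕ) (F : Type*) [Field F] : GL (Fin n) F :=
  ⟨(Fin.revPerm : Equiv.Perm (Fin n)).toPEquiv.toMatrix, (Fin.revPerm : Equiv.Perm (Fin n)).toPEquiv.toMatrix,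
    by rw [PEquiv.toMatrix_toPEquiv_mul]; ext i j; simp [PEquiv.toMatrix_apply, Matrix.one_apply],
    by rw [PEquiv.toMatrix_toPEquiv_mul]; ext i j; simp [PEquiv.toMatrix_apply, Matrix.one_apply]⟩

/-- Inverse transpose followed by reversal of the coordinates. -/
def revT (σ : F ≃+* F) : MulAut SLn := conjSL (revGL n F) * fieldSL σ * invT

theorem revT_apply (σ : F ≃+* F) (s : SLn) (i j : Fin n) :
    (revT σ s).1 i j = σ ((s⁻¹).1 j.rev i.rev) := by
  show ((revGL n F : Matrix (Fin n) (Fin n) F) * (invT s).1.map σ *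
    ((revGL n F)⁻¹ : GL (Fin n) F).1) i j = _
  rw [invT_coe, show ((revGL n F)⁻¹ : GL (Fin n) F).1 = (Fin.revPerm : Equiv.Perm (Fin n)).toPEquiv.toMatrix
      from rfl,
    show (revGL n F : Matrix (Fin n) (Fin n) F) = (Fin.revPerm : Equiv.Perm (Fin n)).toPEquiv.toMatrix from rfl,
    PEquiv.toMatrix_toPEquiv_mul, PEquiv.mul_toMatrix_toPEquiv]
  simp

theorem fieldSL_mem_blockSub {b : Fin n → ℕ} {σ : F ≃+* F} {s : SLn} (h : s ∈ blockSub b) :
    fieldSL σ s ∈ blockSub b := mem_blockSub.2 fun i j hij => by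
  rw [fieldSL_coe, Matrix.map_apply, mem_blockSub.1 h i j hij, map_zero]

theorem revT_mem_blockSub {b : Fin n → ℕ} {c : ℕ} (hb : ∀ i, b i.rev + b i = c) {σ : F ≃+* F} {s : SLn}
    (h : s ∈ blockSub b) : revT σ s ∈ blockSub b := mem_blockSub.2 fun i j hij => by
  rw [revT_apply, mem_blockSub.1 (inv_mem h) j.rev i.rev (by
    have := hb i
    have := hb j
    omega), map_zero]

theorem mem_unitriangularSL {s : SLn} :
    s ∈ GL.unitriangularSL n F ↔ (∀ i j, j < i → s.1 i j = 0) ∧ ∀ i, s.1 i i = 1 := by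
  rw [GL.unitriangularSL, Subgroup.mem_comap, GL.mem_unitriangular]
  rfl

theorem fieldSL_mem_uni {σ : F ≃+* F} {s : SLn} (h : s ∈ GL.unitriangularSL n F) :
    fieldSL σ s ∈ GL.unitriangularSL n F := by
  rw [mem_unitriangularSL] at h ⊢
  refine ⟨fun i j hij => ?_, fun i => ?_⟩
  · rw [fieldSL_coe, Matrix.map_apply, h.1 i j hij, map_zero]
  · rw [fieldSL_coe, Matrix.map_apply, h.2 i, map_one]

theorem revT_mem_uni {σ : F ≃+* F} {s : SLn} (h : s ∈ GL.unitriangularSL n F) :
    revT σ s ∈ GL.unitriangularSL n F := by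
  have h' := mem_unitriangularSL.1 (inv_mem h)
  rw [mem_unitriangularSL]
  refine ⟨fun i j hij => ?_, fun i => ?_⟩
  · rw [revT_apply, h'.1 _ _ (Fin.rev_lt_rev.2 hij), map_zero]
  · rw [revT_apply, h'.2, map_one]

theorem conjSL_mem_blockSub {b : Fin n → ℕ} (hb : Monotone b) {g : GL (Fin n) F} (hg : g ∈ GL.borel n F)
    {s : SLn} (h : s ∈ blockSub b) : conjSL g s ∈ blockSub b := by
  show BlockTriangular (conjSL g s).1 b
  rw [conjSL_coe]
  have key : ∀ x : GL (Fin n) F, x ∈ GL.borel n F → BlockTriangular (x : Matrix (Fin n) (Fin n) F) b :=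
    fun x hx i j hij => hx i j (lt_of_not_ge fun h => (hb h).not_gt hij)
  exact ((key g hg).mul h).mul (key _ (inv_mem hg))

variable {p : ℕ} [Fact p.Prime] [CharP F p]

omit [Finite F] in
theorem sylow_exists [Fintype F] : ∃ S : Sylow p PSLn, (S : Subgroup PSLn) = (GL.unitriangularSL n F).map π :=
  ⟨(GL.sylowSL (F := F) p n).mapSurjective (QuotientGroup.mk'_surjective _), rfl⟩

/-- An automorphism fixing the Sylow subgroup fixes symmetrical parabolic subgroups. -/
theorem exists_normal_form (p : ℕ) [Fact p.Prime] [CharP F p] [Fintype F] {m : ℕ} (hm : 1 ≤ m)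
    (a : MulAut (Matrix.ProjectiveSpecialLinearGroup (Fin (m + 1)) F))
    (hU : ∀ u ∈ (GL.unitriangularSL (m + 1) F).map (QuotientGroup.mk' (Subgroup.center _)),
      a u ∈ (GL.unitriangularSL (m + 1) F).map (QuotientGroup.mk' (Subgroup.center _))) :
    ∀ (b : Fin (m + 1) → ℕ) (c : ℕ), Monotone b → (∀ i, b i.rev + b i = c) →
      ∀ y ∈ (blockSub (F := F) b).map (QuotientGroup.mk' (Subgroup.center _)),
        a y ∈ (blockSub (F := F) b).map (QuotientGroup.mk' (Subgroup.center _)) := by
  classical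
  set U := GL.unitriangularSL (m + 1) F
  obtain ⟨g, σ, γ, hγ, rfl⟩ := AutPSL.exists_decomposition hm a
  obtain ⟨h, τ, hτU, hτb, hmk⟩ : ∃ (h : GL (Fin (m + 1)) F)
      (τ : MulAut (Matrix.SpecialLinearGroup (Fin (m + 1)) F)), (∀ s ∈ U, τ s ∈ U) ∧
      (∀ (b : Fin (m + 1) → ℕ) (c : ℕ), (∀ i, b i.rev + b i = c) → ∀ s ∈ blockSub b, τ s ∈ blockSub b) ∧
      ∀ s, (conjP g * fieldP σ * γ : MulAut (Matrix.ProjectiveSpecialLinearGroup (Fin (m + 1)) F))
        (QuotientGroup.mk s : Matrix.ProjectiveSpecialLinearGroup (Fin (m + 1)) F) =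
          (QuotientGroup.mk (conjSL h (τ s)) : Matrix.ProjectiveSpecialLinearGroup (Fin (m + 1)) F) := by
    rcases hγ with rfl | rfl
    · exact ⟨g, fieldSL σ, fun s => fieldSL_mem_uni, fun b _ _ s => fieldSL_mem_blockSub, fun s => rfl⟩
    · refine ⟨g * revGL _ F, revT σ, fun s => revT_mem_uni, fun b c hb s => revT_mem_blockSub hb,
        fun s => ?_⟩
      show (QuotientGroup.mk (conjSL g (fieldSL σ (invT s))) : Matrix.ProjectiveSpecialLinearGroup _ F) = _
      refine congrArg QuotientGroup.mk ?_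
      have hw : conjSL (revGL (m + 1) F) * conjSL (revGL (m + 1) F) = 1 := by
        rw [← map_mul, show revGL (m + 1) F * revGL (m + 1) F = 1 from
          Units.ext (revGL (m + 1) F).val_inv, map_one]
      rw [map_mul]
      show _ = conjSL g (conjSL (revGL _ F) (conjSL (revGL _ F) (fieldSL σ (invT s))))
      refine congrArg _ ?_
      exact (DFunLike.congr_fun hw _).symm
  set T := conjSL h * τ
  -- the image of the unitriangular group is the unitriangular group
  have hTU : ∀ s ∈ U, T s ∈ U := by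
    have hle : U.map T.toMonoidHom ≤ Subgroup.normalizer (U : Set _) := by
      rintro _ ⟨s, hs, rfl⟩
      obtain ⟨u, hu, e⟩ := hU _ ⟨s, hs, rfl⟩
      have hc : u⁻¹ * T s ∈ Subgroup.center _ := QuotientGroup.eq.1 (e.trans (hmk s))
      have : T s = u * (u⁻¹ * T s) := by group
      show T s ∈ _
      rw [this]
      exact mul_mem (Subgroup.le_normalizer hu) (Subgroup.center_le_normalizer _ hc)
    have hp : IsPGroup p U := GL.isPGroup_unitriangularSL p
    have hsup := hp.to_sup_of_normal_left' (hp.map T.toMonoidHom) hle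
    have hmax := (GL.sylowSL (F := F) p (m + 1)).is_maximal' (Q := U ⊔ U.map T.toMonoidHom) hsup le_sup_left
    exact fun s hs => hmax.le (Subgroup.mem_sup_right ⟨s, hs, rfl⟩)
  have hsurj : ∀ v ∈ U, ∃ s ∈ U, τ s = v := by
    intro v hv
    have hinj : Function.Injective (fun s : U => (⟨τ s, hτU s s.2⟩ : U)) := fun x y e =>
      Subtype.ext (τ.injective (congrArg Subtype.val e))
    obtain ⟨s, hs⟩ := Finite.injective_iff_surjective.1 hinj ⟨v, hv⟩
    exact ⟨s, s.2, congrArg Subtype.val hs⟩
  have hh : h ∈ GL.borel (m + 1) F := by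
    refine GL.mem_borel_of_conj_transvection fun i j hij => ?_
    obtain ⟨s, hs, e⟩ := hsurj (Matrix.SpecialLinearGroup.transvection hij.ne 1)
      (GL.transvection_mem_unitriangular hij 1)
    have h1 := hTU s hs
    rw [show T s = conjSL h (τ s) from rfl, e] at h1
    change Matrix.SpecialLinearGroup.toGL _ ∈ GL.unitriangular (m + 1) F at h1
    convert h1 using 1
    refine Units.ext ?_
    rw [Matrix.SpecialLinearGroup.coe_GL_coe_matrix, conjSL_coe]
    rfl
  rintro b c hb hsym _ ⟨s, hs, rfl⟩
  exact ⟨T s, conjSL_mem_blockSub hb hh (hτb b c hsym s hs), (hmk s).symm⟩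

theorem noType_psl [Fintype F] (hn : 4 ≤ n) : NoType p PSLn := by
  classical
  obtain ⟨m, rfl⟩ : ∃ m, n = m + 1 := ⟨n - 1, by omega⟩
  obtain ⟨S, hS⟩ := sylow_exists (n := m + 1) (F := F) (p := p)
  refine noType_of_sylow S fun A M₀ hc => ?_
  let b : ℕ → Fin (m + 1) → ℕ := fun k i => (if k ≤ i.val then 1 else 0) + if m + 1 - k ≤ i.val then 1 else 0
  have hmono : ∀ k, Monotone (b k) := fun k i j hij => by
    have : i.val ≤ j.val := hij
    simp only [b]
    split_ifs <;> omega
  have hsym : ∀ k, 1 ≤ k → k ≤ 2 → ∀ i, b k i.rev + b k i = 2 := fun k h1 h2 i => by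
    simp only [b, Fin.val_rev]
    have := i.isLt
    split_ifs <;> omega
  have hle : ∀ k, (S : Subgroup _) ≤ (blockSub (F := F) (b k)).map
      (QuotientGroup.mk' (Subgroup.center _)) := fun k =>
    hS.le.trans (Subgroup.map_mono (unitriangularSL_le_blockSub (hmono k)))
  have hne : ∀ k, 1 ≤ k → k ≤ 2 → (blockSub (F := F) (b k)).map
      (QuotientGroup.mk' (Subgroup.center _)) ≠ ⊤ := fun k h1 h2 =>
    map_blockSub_ne_top (i := Fin.last m) (j := 0) (by
      have e0 : b k 0 = 0 + 0 := congrArg₂ (· + ·)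
        (if_neg (by rw [Fin.val_zero]; omega)) (if_neg (by rw [Fin.val_zero]; omega))
      have e1 : b k (Fin.last m) = 1 + 1 := congrArg₂ (· + ·)
        (if_pos (by rw [Fin.val_last]; omega)) (if_pos (by rw [Fin.val_last]; omega))
      omega)
  have hinv : ∀ k, 1 ≤ k → k ≤ 2 → ∀ a ∈ A, ∀ y ∈ (blockSub (F := F) (b k)).map
      (QuotientGroup.mk' (Subgroup.center _)), a y ∈ (blockSub (F := F) (b k)).map
        (QuotientGroup.mk' (Subgroup.center _)) := fun k h1 h2 a ha y hy =>
    exists_normal_form p (by omega) a (fun u hu => hS.le (hc.fixU a ha u (hS.ge hu))) (b k) 2 (hmono k)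
      (hsym k h1 h2) y hy
  refine hc.false_of_two (hle 1) (hle 2) (hne 1 le_rfl one_le_two) (hne 2 one_le_two le_rfl)
    (hinv 1 le_rfl one_le_two) (hinv 2 one_le_two le_rfl) fun Y h₁ h₂ => ?_
  set π' := QuotientGroup.mk' (Subgroup.center (Matrix.SpecialLinearGroup (Fin (m + 1)) F))
  have hmem : ∀ {i j : Fin (m + 1)} (hij : i ≠ j) (c : F), (b 1 i ≤ b 1 j ∨ b 2 i ≤ b 2 j) →
      Matrix.SpecialLinearGroup.transvection hij c ∈ Y.comap π' := by
    rintro i j hij c (h | h)
    · exact h₁ ⟨_, transvection_mem_blockSub hij h c, rfl⟩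
    · exact h₂ ⟨_, transvection_mem_blockSub hij h c, rfl⟩
  have hlow : ∀ (d : ℕ) (i j : Fin (m + 1)), j.val + d + 1 = i.val → ∀ (hij : i ≠ j) (c : F),
      Matrix.SpecialLinearGroup.transvection hij c ∈ Y.comap π' := by
    intro d
    induction d with
    | zero =>
      intro i j hd hij c
      refine hmem hij c ?_
      simp only [b]
      split_ifs <;> omega
    | succ d ih =>
      intro i j hd hij c
      let k : Fin (m + 1) := ⟨j.val + 1, by omega⟩
      have hik : i ≠ k := fun e => by have := congrArg Fin.val e; simp [k] at this; omega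
      have hkj : k ≠ j := fun e => by have := congrArg Fin.val e; simp [k] at this
      rw [← mul_one c, ← GL.commutator_transvection hik hkj hij c 1, commutatorElement_def]
      have h1 := ih i k (by simp [k]; omega) hik c
      have h2 : Matrix.SpecialLinearGroup.transvection hkj (1 : F) ∈ Y.comap π' := hmem hkj 1 (by
        simp only [b, k]
        split_ifs <;> omega)
      exact mul_mem (mul_mem (mul_mem h1 h2) (inv_mem h1)) (inv_mem h2)
  have htop : Y.comap π' = ⊤ := GL.SL_eq_top_of_transvection_mem fun i j hij c => by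
    rcases lt_or_gt_of_ne hij with h | h
    · exact hmem hij c (Or.inl (hmono 1 h.le))
    · exact hlow (i.val - j.val - 1) i j (by have : j.val < i.val := h; omega) hij c
  exact Subgroup.comap_injective (QuotientGroup.mk'_surjective _) (htop.trans (Subgroup.comap_top _).symm)

section three

variable [Fintype F]

theorem cover_three {M : Subgroup (Matrix.SpecialLinearGroup (Fin 3) F)}
    (hU : GL.unitriangularSL 3 F ≤ M) :
    M = ⊤ ∨ M ≤ blockSub ![0, 1, 1] ∨ M ≤ blockSub ![0, 0, 1] := by
  classical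
  set e : Fin 3 → F := Pi.single 0 1 with he
  have he0 : e ≠ 0 := fun h => by simpa [e] using congrFun h 0
  have hQ : FullOver.Uni (Matrix.SpecialLinearGroup (Fin 3) F) (Submodule.span F {e}) ⊤ ≤ M := by
    refine le_trans (fun g hg => ?_) hU
    have h0 := hg.1 e (Submodule.mem_span_singleton_self e)
    have hcol : ∀ i j, g.1 i j = (g • (Pi.single j (1 : F) : Fin 3 → F)) i := fun i j => by
      simp [FullOver.sl_smul_eq]
    have hrow : ∀ i, i ≠ 0 → ∀ j, g.1 i j = (Pi.single j (1 : F) : Fin 3 → F) i := fun i hi j => by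
      obtain ⟨r, hr⟩ := Submodule.mem_span_singleton.1 (hg.2.1 (Pi.single j (1 : F)) Submodule.mem_top)
      have := congrFun hr i
      rw [Pi.smul_apply, Pi.sub_apply, ← hcol, he, Pi.single_eq_of_ne hi, smul_zero] at this
      exact sub_eq_zero.1 this.symm
    have h00 : g.1 0 0 = 1 := by rw [hcol, ← he, h0, he, Pi.single_eq_same]
    refine mem_unitriangularSL.2 ⟨fun i j hij => ?_, fun i => ?_⟩
    · have hi : i ≠ 0 := fun h => by rw [h] at hij; exact absurd hij (Fin.not_lt_zero j)
      rw [hrow i hi j, Pi.single_eq_of_ne hij.ne']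
    · by_cases hi : i = 0
      · rw [hi, h00]
      · rw [hrow i hi i, Pi.single_eq_same]
  set W := Submodule.span F (Set.range fun g : M => (g : Matrix.SpecialLinearGroup (Fin 3) F) • e)
  by_cases hR : W = ⊤
  · exact Or.inl (FullOver.eq_top_of_orbit he0 hQ hR)
  right
  have heW : e ∈ W := Submodule.subset_span ⟨1, one_smul _ _⟩
  have hinv : ∀ g ∈ M, ∀ x ∈ W, g • x ∈ W := by
    intro g hg x hx
    induction hx using Submodule.span_induction with
    | mem x hx =>
      obtain ⟨k, rfl⟩ := hx
      exact Submodule.subset_span ⟨⟨g, hg⟩ * k, mul_smul _ _ _⟩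
    | zero => simp
    | add x y _ _ hx hy => rw [smul_add]; exact add_mem hx hy
    | smul c x _ hx => rw [smul_comm]; exact W.smul_mem c hx
  by_cases h2 : ∀ x ∈ W, x 2 = 0
  · by_cases h1 : ∀ x ∈ W, x 1 = 0
    · refine Or.inl fun g hg => mem_blockSub.2 fun i j hij => ?_
      have hx := hinv g hg e heW
      have a1 := h1 _ hx
      have a2 := h2 _ hx
      simp [e, FullOver.sl_smul_eq] at a1 a2
      fin_cases i <;> fin_cases j <;> simp_all
    · push Not at h1
      obtain ⟨x, hx, hx1⟩ := h1
      have he1 : (Pi.single 1 1 : Fin 3 → F) ∈ W := by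
        have : (Pi.single 1 1 : Fin 3 → F) = (x 1)⁻¹ • (x - x 0 • e) := by
          funext i
          fin_cases i <;> simp [e, hx1, h2 x hx]
        rw [this]
        exact W.smul_mem _ (sub_mem hx (W.smul_mem _ heW))
      refine Or.inr fun g hg => mem_blockSub.2 fun i j hij => ?_
      have a1 := h2 _ (hinv g hg e heW)
      have a2 := h2 _ (hinv g hg _ he1)
      simp [e, FullOver.sl_smul_eq] at a1 a2
      fin_cases i <;> fin_cases j <;> simp_all
  · push Not at h2
    obtain ⟨x, hx, hx2⟩ := h2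
    have he1 : (Pi.single 1 1 : Fin 3 → F) ∈ W := by
      have h12 : (1 : Fin 3) < 2 := by decide
      have hy := hinv _ (hU (GL.transvection_mem_unitriangular (R := F) h12 (1 : F))) x hx
      have : (Pi.single 1 1 : Fin 3 → F) =
          (x 2)⁻¹ • (Matrix.SpecialLinearGroup.transvection h12.ne (1 : F) • x - x) := by
        funext i
        simp only [FullOver.sl_smul_eq, Matrix.SpecialLinearGroup.transvection_coe, Matrix.add_mulVec,
          Matrix.one_mulVec, Matrix.single_mulVec]
        fin_cases i <;> simp [hx2]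
      rw [this]
      exact W.smul_mem _ (sub_mem hy hx)
    have he2 : (Pi.single 2 1 : Fin 3 → F) ∈ W := by
      have : (Pi.single 2 1 : Fin 3 → F) = (x 2)⁻¹ • (x - x 0 • e - x 1 • Pi.single 1 1) := by
        funext i
        fin_cases i <;> simp [e, hx2]
      rw [this]
      exact W.smul_mem _ (sub_mem (sub_mem hx (W.smul_mem _ heW)) (W.smul_mem _ he1))
    refine absurd (eq_top_iff.2 fun y _ => ?_) hR
    have : y = y 0 • e + y 1 • Pi.single 1 1 + y 2 • Pi.single 2 1 := by
      funext i
      fin_cases i <;> simp [e]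
    rw [this]
    exact add_mem (add_mem (W.smul_mem _ heW) (W.smul_mem _ he1)) (W.smul_mem _ he2)

theorem twoType_psl_three : TwoType p (Matrix.ProjectiveSpecialLinearGroup (Fin 3) F) := by
  classical
  obtain ⟨S, hS⟩ := sylow_exists (n := 3) (F := F) (p := p)
  refine twoType_of_sylow S fun A M₀ hc => ?_
  set π' := QuotientGroup.mk' (Subgroup.center (Matrix.SpecialLinearGroup (Fin 3) F))
  have hπ : Function.Surjective π' := QuotientGroup.mk'_surjective _
  have m1 : Monotone (![0, 1, 1] : Fin 3 → ℕ) := by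
    intro i j; fin_cases i <;> fin_cases j <;> simp
  have m2 : Monotone (![0, 0, 1] : Fin 3 → ℕ) := by
    intro i j; fin_cases i <;> fin_cases j <;> simp
  set P := (blockSub (F := F) ![0, 1, 1]).map π'
  set Q := (blockSub (F := F) ![0, 0, 1]).map π'
  have hP : (S : Subgroup _) ≤ P := hS.le.trans (Subgroup.map_mono (unitriangularSL_le_blockSub m1))
  have hQ : (S : Subgroup _) ≤ Q := hS.le.trans (Subgroup.map_mono (unitriangularSL_le_blockSub m2))
  have hcomap : ∀ {b b' : Fin 3 → ℕ}, (blockSub (F := F) b).map π' ≤ (blockSub b').map π' →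
      blockSub (F := F) b ≤ blockSub b' := fun h => by
    rw [Subgroup.map_le_iff_le_comap, comap_map_blockSub] at h
    exact h
  have hPQ : ¬ P ≤ Q := fun h => transvection_notMem (F := F) (b := ![0, 0, 1]) (i := 2) (j := 1)
    (by decide) (by simp) (hcomap h (transvection_mem_blockSub _ (by simp) 1))
  have hQP : ¬ Q ≤ P := fun h => transvection_notMem (F := F) (b := ![0, 1, 1]) (i := 1) (j := 0)
    (by decide) (by simp) (hcomap h (transvection_mem_blockSub _ (by simp) 1))
  have hcover : ∀ Y : Subgroup (Matrix.ProjectiveSpecialLinearGroup (Fin 3) F),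
      (S : Subgroup _) ≤ Y → Y ≠ ⊤ → Y ≤ P ∨ Y ≤ Q := by
    intro Y hY hYt
    have hU : GL.unitriangularSL 3 F ≤ Y.comap π' := Subgroup.map_le_iff_le_comap.1 (hS ▸ hY)
    rcases cover_three hU with h | h | h
    · exact absurd (Subgroup.comap_injective hπ (h.trans (Subgroup.comap_top _).symm)) hYt
    · exact Or.inl ((Subgroup.map_comap_eq_self_of_surjective hπ Y).ge.trans (Subgroup.map_mono h))
    · exact Or.inr ((Subgroup.map_comap_eq_self_of_surjective hπ Y).ge.trans (Subgroup.map_mono h))
  have hinf : P ⊓ Q ≤ Subgroup.normalizer ((S : Subgroup (Matrix.ProjectiveSpecialLinearGroup (Fin 3) F)) :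
      Set (Matrix.ProjectiveSpecialLinearGroup (Fin 3) F)) := by
    intro x hx
    obtain ⟨g, rfl⟩ := hπ x
    have g1 : g ∈ blockSub (F := F) ![0, 1, 1] := by
      rw [← comap_map_blockSub]; exact hx.1
    have g2 : g ∈ blockSub (F := F) ![0, 0, 1] := by
      rw [← comap_map_blockSub]; exact hx.2
    have hg : g ∈ GL.borelSL 3 F := fun i j hij => by
      have a10 := mem_blockSub.1 g1 1 0 (by simp)
      have a20 := mem_blockSub.1 g1 2 0 (by simp)
      have a21 := mem_blockSub.1 g2 2 1 (by simp)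
      fin_cases i <;> fin_cases j <;> simp_all
    rw [hS]
    refine Subgroup.le_normalizer_map π' ⟨g, ?_, rfl⟩
    rwa [GL.normalizer_unitriangularSL]
  obtain ⟨h1, h2, a, ha, hPa, -⟩ := hc.rankTwo hP hQ (map_blockSub_ne_top (i := 1) (j := 0) (by simp))
    (map_blockSub_ne_top (i := 2) (j := 1) (by simp)) hPQ hQP hcover hinf
  exact ⟨h1, h2, outer_of_move ha hP fun e => hPQ (by rw [← hPa, e])⟩

end three

end Cfsg.Agent.PMinLie
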