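import Cfsg.Agent.Lib.PMinLie.Ctx
import Cfsg.Agent.Lib.FullOver.Small
import Cfsg.Agent.Lib.PSL2.Order504

/-!
`L₂(8)` at the prime three: a proper overgroup of a Sylow subgroup normalises it.
-/

set_option autoImplicit false

namespace Cfsg.Agent.PMinLie

open scoped MatrixGroups

theorem le_normalizer_504 {G : Type*} [Group G] [Finite G] [IsSimpleGroup G] (hG : Nat.card G = 504)
    [Fact (Nat.Prime 3)] [Fact (Nat.Prime 7)] (U : Sylow 3 G) {M : Subgroup G}
    (hUM : (U : Subgroup G) ≤ M) (hM : M ≠ ⊤) : M ≤ Subgroup.normalizer ((U : Subgroup G) : Set G) := by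
  classical
  obtain ⟨-, h3⟩ := PSL2.Recog.Order504.three hG
  have hU : Nat.card (U : Subgroup G) = 9 := PSL2.Recog.Order504.card_sylow_three hG U
  have h7 := PSL2.Recog.Order504.index_gt_seven hG M hM
  obtain ⟨j, hj⟩ := hU ▸ Subgroup.card_dvd_of_le hUM
  have hji : j * M.index = 56 := by
    have h1 := M.card_mul_index
    rw [hj, hG, mul_assoc] at h1
    omega
  have hj7 : j ≤ 7 := by nlinarith
  have hpj : ¬ 3 ∣ j := fun h => by
    have : 3 ∣ 56 := hji ▸ Dvd.dvd.mul_right h _
    omega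
  have hMc : Nat.card M = 3 ^ 2 * j := by rw [hj]; norm_num
  obtain ⟨hd, hmod⟩ := PSL2.Recog.card_sylow_mem (p := 3) (G := M) (m := j) 2 hMc hpj
  have hjs : j ≠ 7 := by
    rintro rfl
    have hMc : Nat.card M = 63 := by
      have h1 := M.card_mul_index
      rw [hG] at h1
      nlinarith
    obtain ⟨P⟩ := (inferInstance : Nonempty (Sylow 7 M))
    obtain ⟨hn, hn1⟩ := PSL2.Recog.card_sylow_mem (p := 7) (G := M) (m := 9) 1 (by rw [hMc]; norm_num) (by norm_num)
    have hone : Nat.card (Sylow 7 M) = 1 := by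
      have h' : Nat.card (Sylow 7 M) ∈ Nat.divisors 9 := Nat.mem_divisors.2 ⟨hn, by norm_num⟩
      generalize Nat.card (Sylow 7 M) = n at h' hn1 ⊢
      clear hn; revert hn1; revert n; decide
    haveI : Subsingleton (Sylow 7 M) := (Nat.card_eq_one_iff_unique.1 hone).1
    have hPc : Nat.card (P : Subgroup M) = 7 ^ 1 :=
      SmallSimple.card_sylow_subgroup (m := 9) (by rw [hMc]; norm_num) (by norm_num) P
    set Q := (P : Subgroup M).map M.subtype
    have hQc : Nat.card Q = 7 := by
      rw [Subgroup.card_map_of_injective M.subtype_injective, hPc, pow_one]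
    have hQp : IsPGroup 7 Q := IsPGroup.of_card (n := 1) (by rw [hQc, pow_one])
    obtain ⟨R, hQR⟩ := hQp.exists_le_sylow
    have hQR' : Q = (R : Subgroup G) :=
      Subgroup.eq_of_le_of_card_ge hQR (by rw [PSL2.Recog.Order504.card_sylow_seven hG R, hQc])
    have hMN : M ≤ Subgroup.normalizer ((R : Subgroup G) : Set G) := by
      rw [← hQR']
      refine (Subgroup.normal_subgroupOf_iff_le_normalizer (Subgroup.map_subtype_le _)).1 ?_
      rw [Subgroup.subgroupOf, Subgroup.comap_map_eq_self_of_injective M.subtype_injective]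
      exact P.normal_of_subsingleton
    have h14 := Subgroup.card_dvd_of_le hMN
    rw [((PSL2.Recog.Order504.seven hG).2 R).1, hMc] at h14
    norm_num at h14
  let P : Sylow 3 M := U.subtype hUM
  have hP : (P : Subgroup M) = (U : Subgroup G).subgroupOf M := rfl
  suffices h : Subsingleton (Sylow 3 M) by
    refine (Subgroup.normal_subgroupOf_iff_le_normalizer hUM).1 ?_
    rw [← hP]
    exact P.normal_of_subsingleton
  have hPc : Nat.card (P : Subgroup M) = 9 := by
    rw [hP, Nat.card_congr (Subgroup.subgroupOfEquivOfLe hUM).toEquiv, hU]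
  by_contra hns
  have hn6 : Nat.card (Sylow 3 M) ≤ 5 := by
    have hj0 : 0 < j := Nat.pos_of_ne_zero fun h => by simp [h] at hji
    have h1 := Nat.le_of_dvd hj0 hd
    omega
  obtain ⟨N, hNn, hNp, hN⟩ := FullOver.exists_normal_of_few P (by
    rw [hPc]
    generalize Nat.card (Sylow 3 M) = n at hn6
    interval_cases n <;> norm_num [Nat.factorial])
  obtain ⟨y, hy1⟩ := Subgroup.ne_bot_iff_exists_ne_one.1 hN
  have hall : ∀ Q : Sylow 3 M, (y : M) ∈ (Q : Subgroup M) := fun Q =>
    FullOver.le_sylow hNp (le_top.trans (Subgroup.normalizer_eq_top_iff.2 hNn).ge) y.2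
  refine hns ⟨fun Q Q' => ?_⟩
  have key : ∀ R : Sylow 3 M, ∀ z : M, z ∈ (R : Subgroup M) →
      (z : G) ∈ Subgroup.centralizer ({((y : M) : G)} : Set G) := by
    intro R z hz
    obtain ⟨T, hT⟩ := (R.isPGroup'.map M.subtype).exists_le_sylow
    have e := h3 T ((y : M) : G) (hT ⟨_, hall R, rfl⟩) (fun e => hy1 (Subtype.ext (Subtype.ext e)))
    rw [e]
    exact hT ⟨z, hz, rfl⟩
  obtain ⟨T, hT⟩ := (P.isPGroup'.map M.subtype).exists_le_sylow
  have hT' := h3 T ((y : M) : G) (hT ⟨_, hall P, rfl⟩) (fun e => hy1 (Subtype.ext (Subtype.ext e)))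
  have hTU : (T : Subgroup G) = U := by
    refine (Subgroup.eq_of_le_of_card_ge (fun u hu => hT ⟨⟨u, hUM hu⟩, hu, rfl⟩) ?_).symm
    rw [PSL2.Recog.Order504.card_sylow_three hG T, hU]
  have hQP : ∀ R : Sylow 3 M, R = P := fun R => by
    refine Sylow.ext ((R.is_maximal' P.isPGroup' fun z hz => ?_).symm)
    have h1 := key R z hz
    rw [hT', hTU] at h1
    exact h1
  rw [hQP Q, hQP Q']

theorem oneType_psl28 {F : Type*} [Field F] [Fintype F] (hF : Fintype.card F = 8) [Fact (Nat.Prime 3)] :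
    OneType 3 PSL(2, F) := by
  classical
  have : Fact (Nat.Prime 7) := ⟨by norm_num⟩
  have := PSL2.psl_isSimpleGroup (F := F) (by omega)
  have h2 : (2 : F) = 0 := by
    have := FiniteField.cast_card_eq_zero F
    rw [hF, show ((8 : ℕ) : F) = 2 ^ 3 by norm_num] at this
    exact eq_zero_of_pow_eq_zero this
  have hc : Nat.card PSL(2, F) = 504 := by rw [PSL2.card_PSL_of_two_eq_zero h2, hF]; norm_num
  obtain ⟨S⟩ := (inferInstance : Nonempty (Sylow 3 PSL(2, F)))
  exact oneType_of_sylow S fun A M₀ h => le_normalizer_504 hc S h.le h.ne_top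

end Cfsg.Agent.PMinLie
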