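import Cfsg.Agent.Lib.PMinLie.Ctx
import Cfsg.Agent.Lib.PMinimal.Basic
import Cfsg.Agent.Lib.Components.GenFitting
import Cfsg.Agent.Lib.FullOver.Basic

/-!
From a `p`-minimal group to the situation inside its simple socle.
-/

set_option autoImplicit false

namespace Cfsg.Agent.PMinLie

variable {X : Type*} [Group X] [Finite X] {p : ℕ} [Fact p.Prime]

theorem exists_ctx (hX : Cfsg.IsPMinimal p X) (K : Subgroup X) [K.Normal] (U : Sylow p K)
    (hU : ¬ (U : Subgroup K).Normal) :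
    ∃ (A : Subgroup (MulAut K)) (M₀ : Subgroup K), Ctx p (U : Subgroup K) A M₀ ∧
      (M₀ ≤ Subgroup.normalizer ((U : Subgroup K) : Set K) →
        IsCoatom (Subgroup.normalizer (((U : Subgroup K).map K.subtype : Subgroup X) : Set X))) ∧
      (Outer (U : Subgroup K) A → K ≠ ⊤) := by
  classical
  set V : Subgroup X := (U : Subgroup K).map K.subtype with hV
  set N : Subgroup X := Subgroup.normalizer (V : Set X) with hN
  obtain ⟨S, hVS⟩ := (U.isPGroup'.map K.subtype : IsPGroup p V).exists_le_sylow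
  have hUS : (U : Subgroup K) = (S : Subgroup X).subgroupOf K :=
    (U.is_maximal' (S.isPGroup'.comap_of_injective K.subtype K.subtype_injective)
      fun u hu => hVS ⟨u, hu, rfl⟩).symm
  have hconj : ∀ s ∈ (S : Subgroup X), ∀ u : K, u ∈ (U : Subgroup K) →
      MulAut.conjNormal s u ∈ (U : Subgroup K) := by
    intro s hs u hu
    rw [hUS] at hu ⊢
    show s * (u : X) * s⁻¹ ∈ (S : Subgroup X)
    exact mul_mem (mul_mem hs hu) (inv_mem hs)
  have hSN : (S : Subgroup X) ≤ N := by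
    intro s hs
    refine Subgroup.mem_normalizer_iff.2 fun x => ⟨?_, fun hx => ?_⟩
    · rintro ⟨u, hu, rfl⟩
      exact ⟨_, hconj s hs u hu, by simp⟩
    · obtain ⟨u, hu, e⟩ := hx
      refine ⟨_, hconj s⁻¹ (inv_mem hs) u hu, ?_⟩
      show ((MulAut.conjNormal s⁻¹ u : K) : X) = x
      rw [MulAut.conjNormal_apply, show (u : X) = s * x * s⁻¹ from e]
      group
  have hNtop : N ≠ ⊤ := by
    intro h
    refine hU ⟨fun u hu k => ?_⟩
    obtain ⟨w, hw, e⟩ := (Subgroup.mem_normalizer_iff.1 (h ▸ Subgroup.mem_top (k : X) : (k : X) ∈ N)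
      (u : X)).1 ⟨u, hu, rfl⟩
    rwa [show k * u * k⁻¹ = w from Subtype.ext (by simpa using e.symm)]
  have hfr : N ⊔ K = ⊤ := Sylow.normalizer_sup_eq_top U
  obtain ⟨M, hM, -⟩ := (hX S).2
  obtain ⟨hMc, hSM⟩ := hM
  have hle : ∀ {Y : Subgroup X}, (S : Subgroup X) ≤ Y → Y ≠ ⊤ → Y ≤ M :=
    fun h1 h2 => PMinimal.le_of_ne_top hX hMc hSM h1 h2
  have hNM : N ≤ M := hle hSN hNtop
  have hKM : ¬ K ≤ M := fun h => hMc.1 (top_le_iff.1 (hfr.ge.trans (sup_le hNM h)))
  have hKS : ∀ x : X, ∃ k ∈ K, ∃ s ∈ (S : Subgroup X), k * s = x := by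
    have htop : K ⊔ (S : Subgroup X) = ⊤ := by
      by_contra h
      exact hKM (le_sup_left.trans (hle le_sup_right h))
    intro x
    have hx : x ∈ ((K ⊔ (S : Subgroup X) : Subgroup X) : Set X) := htop ▸ Subgroup.mem_top x
    rw [Subgroup.normal_mul] at hx
    obtain ⟨k, hk, s, hs, e⟩ := hx
    exact ⟨k, hk, s, hs, e⟩
  set c : X →* MulAut K := MulAut.conjNormal with hc
  set A : Subgroup (MulAut K) := (S : Subgroup X).map c
  refine ⟨A, M.subgroupOf K, ⟨U.isPGroup', U.not_dvd_index, S.isPGroup'.map c, ?_, ?_, ?_, ?_, ?_, ?_⟩,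
    fun hM₀ => ?_, fun hout hK => ?_⟩
  · rintro _ ⟨s, hs, rfl⟩ u hu
    exact hconj s hs u hu
  · intro u hu
    exact ⟨(u : X), hVS ⟨u, hu, rfl⟩, MulEquiv.ext fun y => Subtype.ext (by simp [c])⟩
  · intro u hu
    exact hSM (hVS ⟨u, hu, rfl⟩)
  · intro h
    exact hKM (Subgroup.subgroupOf_eq_top.1 h)
  · rintro _ ⟨s, hs, rfl⟩ y hy
    exact mul_mem (mul_mem (hSM hs) hy) (inv_mem (hSM hs))
  · intro Y hUY hYtop hYinv
    set W : Subgroup X := Y.map K.subtype
    have hSW : (S : Subgroup X) ≤ Subgroup.normalizer (W : Set X) := by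
      intro s hs
      refine Subgroup.mem_normalizer_iff.2 fun x => ⟨?_, fun hx => ?_⟩
      · rintro ⟨y, hy, rfl⟩
        exact ⟨_, hYinv _ ⟨s, hs, rfl⟩ y hy, by simp [c]⟩
      · obtain ⟨y, hy, e⟩ := hx
        refine ⟨_, hYinv _ ⟨s⁻¹, inv_mem hs, rfl⟩ y hy, ?_⟩
        show ((MulAut.conjNormal s⁻¹ y : K) : X) = x
        rw [MulAut.conjNormal_apply, show (y : X) = s * x * s⁻¹ from e]
        group
    have hWS : W ⊔ (S : Subgroup X) ≠ ⊤ := by
      intro h
      refine hYtop (eq_top_iff.2 fun k _ => ?_)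
      have hk : (k : X) ∈ ((W ⊔ (S : Subgroup X) : Subgroup X) : Set X) := h ▸ Subgroup.mem_top _
      rw [sup_comm, Subgroup.coe_mul_of_left_le_normalizer_right _ _ hSW] at hk
      obtain ⟨s, hs, w, ⟨y, hy, rfl⟩, e⟩ := hk
      have hsK : s ∈ K := by
        rw [← mul_inv_cancel_right s (K.subtype y)]
        refine mul_mem ?_ (inv_mem y.2)
        rw [show s * K.subtype y = (k : X) from e]
        exact k.2
      have hsY : (⟨s, hsK⟩ : K) ∈ Y := hUY (by rw [hUS]; exact hs)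
      rw [show k = ⟨s, hsK⟩ * y from Subtype.ext e.symm]
      exact mul_mem hsY hy
    exact fun y hy => hle le_sup_right hWS (Subgroup.mem_sup_left ⟨y, hy, rfl⟩)
  · have hMN : M ≤ N := by
      intro x hx
      obtain ⟨k, hk, s, hs, rfl⟩ := hKS x
      refine mul_mem ?_ (hSN hs)
      have hkM : k ∈ M := by simpa using mul_mem hx (inv_mem (hSM hs))
      exact Subgroup.le_normalizer_map K.subtype ⟨⟨k, hk⟩, hM₀ hkM, rfl⟩
    rwa [show N = M from le_antisymm hNM hMN]
  · obtain ⟨_, ⟨s, hs, rfl⟩, ha⟩ := hout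
    have hsK : s ∈ K := hK ▸ Subgroup.mem_top s
    exact ha ⟨s, hsK⟩ (by rw [hUS]; exact hs) (MulEquiv.ext fun y => Subtype.ext (by simp [c]))

/-- A Sylow subgroup of a simple group in the characteristic is not normal. -/
theorem not_normal_sylow {K : Type*} [Group K] [Finite K] [IsSimpleGroup K] (hf : FullOver.PFull p K)
    (hz : Subgroup.center K = ⊥) (U : Sylow p K) : ¬ (U : Subgroup K).Normal := by
  intro hn
  rcases hn.eq_bot_or_eq_top with h | h
  · rcases hf U U.not_dvd_index with h' | ⟨N, hN, -, -, hc⟩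
    · exact bot_ne_top (h.symm.trans h')
    · exact hc ((hN.trans h.le).trans bot_le)
  · have hp : IsPGroup p K :=
      U.isPGroup'.of_equiv ((MulEquiv.subgroupCongr h).trans Subgroup.topEquiv)
    have := hp.center_nontrivial
    exact (Subgroup.nontrivial_iff_ne_bot _).1 this hz

end Cfsg.Agent.PMinLie
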