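import Cfsg.Agent.Lib.PMinLie.Data
import Cfsg.Agent.Lib.FullOver.Tits

/-!
The derived group of ²F₄(2): the two maximal overgroups of a Sylow subgroup have different orders.
-/

set_option autoImplicit false
set_option linter.unusedSectionVars false

namespace Cfsg.Agent.PMinLie

open Cfsg Cfsg.Lie Cfsg.Agent.BN Cfsg.Agent.Chev Cfsg.Agent.Chev.BNSetup
open Cfsg.Agent.RootBN (Data)
open Cfsg.Agent.RootBN.Data
open Cfsg.Agent.Twisted.F4 Cfsg.Agent.Twisted.Tits
open Cfsg.Agent.FullOver (maxPara HalfData titsKer halfData exists_le_maxPara_two)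

theorem coe_maxPara {M : Type*} [Group M] {ι : Type*} {D : Data M ι (Fin 2)} [Finite ι] (ax : D.Axioms)
    (hH : D.H = ⊥) {i j : Fin 2} (hij : i ≠ j) :
    (maxPara D j : Set M) = (D.B : Set M) ∪ D.cell (D.refl i) := by
  have hnn : D.nn i ∈ maxPara D j := Subgroup.subset_closure (Or.inr ⟨i, hij, rfl⟩)
  have hB : D.B ≤ maxPara D j := by
    rw [Data.B, hH, sup_bot_eq]
    exact fun x hx => Subgroup.subset_closure (Or.inl (Or.inl hx))
  refine Set.Subset.antisymm (fun g hg => ?_) ?_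
  · set s := node ax i
    have hle : maxPara D j ≤ ((bnPair ax).parabolic {(s : D.grp)}).map D.grp.subtype := by
      rw [maxPara, Subgroup.closure_le]
      rintro x ((hx | hx) | ⟨k, hk, rfl⟩)
      · exact ⟨⟨x, B_le_grp ax (U_le_B hx)⟩, B_le_parabolic _ _ (Subgroup.mem_subgroupOf.2 (U_le_B hx)), rfl⟩
      · exact ⟨⟨x, B_le_grp ax (H_le_B hx)⟩, B_le_parabolic _ _ (Subgroup.mem_subgroupOf.2 (H_le_B hx)), rfl⟩
      · obtain rfl : k = i := by
          have hk' : k ≠ j := hk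
          omega
        exact ⟨_, subset_parabolic _ _ (Set.mem_singleton (s : D.grp)), rfl⟩
    obtain ⟨y, hy, rfl⟩ := hle hg
    by_cases hb : y ∈ (bnPair ax).B
    · exact Or.inl hb
    · have hc := cell_of_mem_parabolic_singleton (bnPair ax) s hy hb
      rw [BN.refl, cell_mk, DoubleCoset.mem_doubleCoset] at hc
      obtain ⟨b, hb', c, hc', rfl⟩ := hc
      exact Or.inr ((mem_cell_iff ax (nn_mem_N i) (acts_nn ax i)).2
        ⟨(b : M), hb', (c : M), hc', rfl⟩)
  · rintro g (hg | hg)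
    · exact hB hg
    · obtain ⟨b, hb, c, hc, rfl⟩ := (mem_cell_iff ax (nn_mem_N i) (acts_nn ax i)).1 hg
      exact mul_mem (mul_mem (hB hb) hnn) (hB hc)

theorem card_maxPara {M : Type*} [Group M] [Finite M] {ι : Type*} {D : Data M ι (Fin 2)} [Finite ι]
    (ax : D.Axioms) (hH : D.H = ⊥) {i j : Fin 2} (hij : i ≠ j) :
    Nat.card (maxPara D j) = Nat.card D.U * (1 + Nat.card (D.X (D.simp i))) := by
  have hBU : D.B = D.U := by rw [Data.B, hH, sup_bot_eq]
  have hcard := card_cosets_step ax (i := i) [] (by simpa using ax.pos_simp i)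
  rw [wl_nil, mul_one, card_cosets_one ax, mul_one] at hcard
  have hset : D.cell (D.refl i) = (QuotientGroup.mk ⁻¹' D.cosets (D.refl i) : Set M) :=
    Set.ext fun g => mem_cosets.symm
  have hcell : Nat.card ↥(D.cell (D.refl i)) = Nat.card D.B * Nat.card (D.X (D.simp i)) := by
    rw [← hcard, ← Nat.card_prod,
      ← Nat.card_congr (QuotientGroup.preimageMkEquivSubgroupProdSet D.B (D.cosets (D.refl i))), hset]
  have hdisj : Disjoint (D.B : Set M) (D.cell (D.refl i)) := Set.disjoint_left.2 fun g hg hc => by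
    obtain ⟨b, hb, c, hc', rfl⟩ := (mem_cell_iff ax (nn_mem_N i) (acts_nn ax i)).1 hc
    have hn : D.nn i ∈ D.B := (D.B.mul_mem_cancel_left hb).1 ((D.B.mul_mem_cancel_right hc').1 hg)
    have h1 := acts_unique ax (acts_nn ax i) (acts_H ax ((N_inf_B ax).le ⟨nn_mem_N i, hn⟩))
    have h2 := ax.refl_simp i
    rw [h1, Equiv.Perm.one_apply] at h2
    exact (ax.pos_opp _).1 (h2 ▸ ax.pos_simp i) (ax.pos_simp i)
  have hn : Set.ncard (maxPara D j : Set M) = (D.B : Set M).ncard + (D.cell (D.refl i)).ncard := by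
    rw [coe_maxPara ax hH hij, Set.ncard_union_eq hdisj]
  rw [← Nat.card_coe_set_eq, ← Nat.card_coe_set_eq, ← Nat.card_coe_set_eq] at hn
  rw [show Nat.card (maxPara D j) = _ from hn, hcell, ← hBU, show Nat.card ↥(D.B : Set M) = Nat.card D.B from rfl]
  ring

variable {F : Type*} [Field F] [CharP F 2] [Fintype F] (hK : Fintype.card F = 2 ^ (2 * 0 + 1))
include hK

theorem noType_tits' [Fact (Nat.Prime 2)] : NoType 2 ↥(commutator ↥(tw hK).Gt) := by
  classical
  set C : Subgroup ↥(tw hK).Gt := commutator ↥(tw hK).Gt with hCdef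
  set D := (tw hK).data
  have ax : D.Axioms := dax hK
  have hH : D.H = ⊥ := data_H_eq_bot hK
  set T := titsKer hK
  have hT : HalfData D T := halfData hK
  set f : ↥C →* G F := (tw hK).Gt.subtype.comp C.subtype
  have hf : Function.Injective f := (tw hK).Gt.subtype_injective.comp C.subtype_injective
  have hfT : ∀ x, f x ∈ T := fun x => Subgroup.mem_map_of_mem (tw hK).Gt.subtype
    ((commutator_eq_ker hK).le x.2)
  have hfrange : ∀ y ∈ T, ∃ x, f x = y := by
    rintro _ ⟨y, hy, rfl⟩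
    exact ⟨⟨y, (commutator_eq_ker hK).ge hy⟩, rfl⟩
  have hUG : D.U ≤ D.grp := U_le_B.trans (B_le_grp ax)
  obtain ⟨u₀, hu₀, hu₀T⟩ : ∃ u ∈ D.U, u ∉ T := by
    obtain ⟨r, hr, -, y, hy, hyT⟩ := hT.odd 0
    exact ⟨y, X_le_U hr hy, hyT⟩
  have hhalf : ∀ {P : Subgroup (G F)}, D.U ≤ P → P ≤ D.grp → Nat.card P = 2 * Nat.card (P.comap f) := by
    intro P hUP hPG
    have h1 : Nat.card (P.comap f) = Nat.card (T.subgroupOf P) := by
      refine Nat.card_eq_of_bijective (fun x => ⟨⟨f x, x.2⟩, hfT x⟩) ⟨fun a b h => Subtype.ext (hf ?_), ?_⟩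
      · exact congrArg (fun y : T.subgroupOf P => ((y : P) : G F)) h
      · rintro ⟨⟨y, hyP⟩, hyT⟩
        obtain ⟨x, rfl⟩ := hfrange y hyT
        exact ⟨⟨x, hyP⟩, rfl⟩
    have h2 : (T.subgroupOf P).index = 2 := Subgroup.index_eq_two_iff.2 ⟨⟨u₀, hUP hu₀⟩, fun b => by
      show Xor ((b : G F) * u₀ ∈ T) ((b : G F) ∈ T)
      rw [hT.two _ (hPG b.2) _ (hUG hu₀)]
      by_cases hb : (b : G F) ∈ T <;> simp [Xor, hb, hu₀T]⟩
    rw [h1, ← (T.subgroupOf P).card_mul_index, h2, mul_comm]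
  have hUc : Nat.card D.U = 2 ^ 12 := by rw [card_U hK, hK]; norm_num
  have hU' : Nat.card (D.U.comap f) = 2 ^ 11 := by
    have := hhalf le_rfl hUG
    rw [hUc] at this
    omega
  have hUP : ∀ j, D.U ≤ maxPara D j := fun j x hx => Subgroup.subset_closure (Or.inl (Or.inl hx))
  have hPG : ∀ j, maxPara D j ≤ D.grp := fun j => by
    rw [maxPara, Subgroup.closure_le]
    rintro x ((hx | hx) | ⟨k, -, rfl⟩)
    · exact hUG hx
    · exact B_le_grp ax (H_le_B hx)
    · exact ax.nn_mem k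
  have hP : ∀ i j : Fin 2, i ≠ j → Nat.card ((maxPara D j).comap f) = 2 ^ 11 * (1 + 2 ^ (i.val + 1)) := by
    intro i j hij
    have h := hhalf (hUP j) (hPG j)
    rw [card_maxPara ax hH hij, hUc, show Nat.card (D.X (D.simp i)) = _ from card_X'_simp hK i, hK] at h
    norm_num at h ⊢
    omega
  have hP0 : Nat.card ((maxPara D 1).comap f) = 2 ^ 11 * 3 := hP 0 1 (by decide)
  have hP1 : Nat.card ((maxPara D 0).comap f) = 2 ^ 11 * 5 := hP 1 0 (by decide)
  have hidx : ¬ 2 ∣ (D.U.comap f).index := by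
    rintro ⟨k, hk⟩
    have hC : Nat.card C * 2 = 2 ^ 12 * 8775 := by
      have hi : C.index = 2 := by
        rw [hCdef, commutator_eq_ker hK, Subgroup.index_ker, MonoidHom.range_eq_top.2 (sgn_surjective hK),
          Subgroup.card_top, Nat.card_eq_fintype_card]
        rfl
      have e1 := C.card_mul_index
      rw [hi] at e1
      rw [e1, ← (D.U.subgroupOf (tw hK).Gt).card_mul_index, index_U hK,
        Nat.card_congr (Subgroup.subgroupOfEquivOfLe (U_le_Gt hK)).toEquiv, hUc]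
    have := (D.U.comap f).card_mul_index
    rw [hU', hk] at this
    omega
  set S := (IsPGroup.of_card (n := 11) hU').toSylow hidx
  refine noType_of_sylow S fun A M₀ hctx => ?_
  have hSP : ∀ j, ((S : Sylow 2 ↥C) : Subgroup ↥C) ≤ (maxPara D j).comap f := fun j =>
    Subgroup.comap_mono (hUP j)
  have hne : ∀ {j k}, Nat.card ((maxPara D j).comap f) = 2 ^ 11 * 3 →
      Nat.card ((maxPara D k).comap f) = 2 ^ 11 * 5 → ¬ (maxPara D j).comap f ≤ (maxPara D k).comap f ∧
      ¬ (maxPara D k).comap f ≤ (maxPara D j).comap f := fun {j k} h3 h5 =>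
    ⟨fun h => by have := Subgroup.card_dvd_of_le h; rw [h3, h5] at this; norm_num at this,
      fun h => by have := Subgroup.card_dvd_of_le h; rw [h3, h5] at this; norm_num at this⟩
  obtain ⟨hPQ, hQP⟩ := hne hP0 hP1
  have hcover : ∀ Y : Subgroup ↥C, ((S : Sylow 2 ↥C) : Subgroup ↥C) ≤ Y → Y ≠ ⊤ →
      Y ≤ (maxPara D 1).comap f ∨ Y ≤ (maxPara D 0).comap f := by
    intro Y hY hYt
    obtain ⟨j, hj⟩ := exists_le_maxPara_two ax hT (M₀ := Y.map f) (by
      rintro u ⟨hu, huT⟩
      obtain ⟨x, rfl⟩ := hfrange u huT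
      exact Subgroup.mem_map_of_mem f (hY hu)) (by rintro _ ⟨x, -, rfl⟩; exact hfT x) (fun e => hYt
        (eq_top_iff.2 fun x _ => (Subgroup.mem_map_iff_mem hf).1 (e.ge (hfT x))))
    have hj' : Y ≤ (maxPara D j).comap f := Subgroup.map_le_iff_le_comap.1 hj
    fin_cases j
    · exact Or.inr hj'
    · exact Or.inl hj'
  have hinf : (maxPara D 1).comap f ⊓ (maxPara D 0).comap f ≤
      Subgroup.normalizer (((S : Sylow 2 ↥C) : Subgroup ↥C) : Set ↥C) := by
    have hd := Nat.dvd_gcd (Subgroup.card_dvd_of_le (inf_le_left : (maxPara D 1).comap f ⊓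
      (maxPara D 0).comap f ≤ _)) (Subgroup.card_dvd_of_le inf_le_right)
    rw [hP0, hP1, Nat.gcd_mul_left, show Nat.gcd 3 5 = 1 from rfl, mul_one] at hd
    have heq : ((S : Sylow 2 ↥C) : Subgroup ↥C) = (maxPara D 1).comap f ⊓ (maxPara D 0).comap f :=
      Subgroup.eq_of_le_of_card_ge (le_inf (hSP 1) (hSP 0)) (by
        rw [show Nat.card ((S : Sylow 2 ↥C) : Subgroup ↥C) = 2 ^ 11 from hU']
        exact Nat.le_of_dvd (by norm_num) hd)
    rw [← heq]
    exact Subgroup.le_normalizer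
  obtain ⟨-, -, a, -, hPa, -⟩ := hctx.rankTwo (hSP 1) (hSP 0)
    (fun e => hQP (e ▸ le_top)) (fun e => hPQ (e ▸ le_top)) hPQ hQP hcover hinf
  have hinj : Function.Injective a.toMonoidHom := a.injective
  have := Subgroup.card_map_of_injective (K := (maxPara D 1).comap f) hinj
  rw [hPa, hP0, hP1] at this
  norm_num at this

theorem noType_tits'' [Fact (Nat.Prime 2)] : NoType 2 ↥(commutator ↥(twistedF4 F (2 ^ 0))) :=
  (noType_tits' hK).of_equiv (FullOver.commutatorCongr (equivTwisted hK)).symm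

omit [CharP F 2] [Fintype F] hK in
theorem noType_tits [Fact (Nat.Prime 2)] : NoType 2 Lie.TitsGroup := by
  have hK : Fintype.card (ZMod 2) = 2 ^ (2 * 0 + 1) := by simp
  exact noType_tits'' hK

end Cfsg.Agent.PMinLie
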