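import Cfsg.Agent.Lib.PMinLie.Ctx
import Cfsg.Agent.Lib.U33.Model
import Cfsg.Agent.Lib.MinIndexU3.Psu
import Cfsg.Agent.S3438

/-!
`U₃(3)` at the prime two: the centraliser of the central involution and the monomial group are invariant.
-/

set_option autoImplicit false
set_option synthInstance.maxSize 4000
set_option linter.style.haveILetI false

namespace Cfsg.Agent.PMinLie

open Matrix
open Cfsg.Agent.S3438 (K9)

/-- Monomial elements of the Sylow subgroup: two exponents and whether they swap. -/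
abbrev Code : Type := ZMod 4 × ZMod 4 × Bool

/-- Their product. -/
def cmul : Code → Code → Code
  | (a, b, false), (a', b', t) => (a + a', b + b', t)
  | (a, b, true), (a', b', t) => (a + b', b + a', !t)

/-- The powers of a square root of `-1`. -/
def ii : ZMod 4 → K9 := ![⟨1, 0⟩, ⟨0, 1⟩, ⟨2, 0⟩, ⟨0, 2⟩]

/-- The matrix of a code. -/
def iota : Code → Matrix (Fin 3) (Fin 3) K9
  | (a, b, false) => !![ii a, 0, 0; 0, ii b, 0; 0, 0, ii (-(a + b))]
  | (a, b, true) => !![0, ii a, 0; ii b, 0, 0; 0, 0, -ii (-(a + b))]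

/-- The central involution. -/
def zC : Code := (2, 2, false)

/-- The elements whose square is not central. -/
def InE (x : Code) : Prop := ∃ y, cmul (cmul x x) y ≠ cmul y (cmul x x)

instance : DecidablePred InE := fun x => inferInstanceAs (Decidable (∃ y, _ ≠ _))

/-- The effect of the cycle on diagonal codes. -/
def cperm : Code → Code
  | (a, b, s) => (-(a + b), a, s)

/-- The cycle of the coordinates. -/
def cU33 : Matrix (Fin 3) (Fin 3) K9 := !![0, 0, 1; 1, 0, 0; 0, 1, 0]

/-- A transvection centralising the involution: `(1 + i)` is a primitive eighth root. -/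
def tU33 : Matrix (Fin 3) (Fin 3) K9 :=
  let g : K9 := ⟨1, 1⟩
  !![1 + g * g, g * g * (g * g * g), 0; g * g * g, 1 - g * g, 0; 0, 0, 1]

set_option maxRecDepth 100000 in
set_option maxHeartbeats 0 in
theorem iota_unitary : ∀ x : Code, (iota x).transpose * (iota x).map (· ^ 3) = 1 := by
  decide +kernel

set_option maxRecDepth 100000 in
set_option maxHeartbeats 0 in
theorem iota_mul : ∀ x y : Code, iota x * iota y = iota (cmul x y) := by
  decide +kernel

set_option maxRecDepth 100000 in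
set_option maxHeartbeats 0 in
theorem iota_injective : ∀ x y : Code, iota x = iota y → x = y := by
  decide +kernel

set_option maxRecDepth 100000 in
set_option maxHeartbeats 0 in
theorem code_facts : iota (0, 0, false) = 1 ∧ (∀ x, cmul zC x = cmul x zC) ∧ cmul zC zC = (0, 0, false) ∧
    (∀ x, cmul x x = (0, 0, false) → x ≠ (0, 0, false) → x ≠ zC → ∃ y, cmul x y ≠ cmul y x) ∧
    (∀ x, InE x → x.2.2 = false) ∧ InE (1, 0, false) ∧
    ∀ x, InE x → ∃ a, InE a ∧ (cperm x = a ∨ ∃ b, InE b ∧ cperm x = cmul a b) := by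
  decide +kernel

set_option maxRecDepth 100000 in
set_option maxHeartbeats 0 in
theorem iota_diag : ∀ a b : ZMod 4, ∀ i j : Fin 3, i ≠ j → iota (a, b, false) i j = 0 := by
  intro a b i j h
  fin_cases i <;> fin_cases j <;> simp_all [iota]

set_option maxRecDepth 100000 in
set_option maxHeartbeats 0 in
theorem cU33_facts : cU33.transpose * cU33.map (· ^ 3) = 1 ∧ cU33 * (cU33 * cU33) = 1 ∧ cU33 ≠ 1 ∧
    iota zC * cU33 ≠ cU33 * iota zC ∧
    ∀ a b : ZMod 4, cU33 * iota (a, b, false) * (cU33 * cU33) = iota (cperm (a, b, false)) := by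
  decide +kernel

set_option maxRecDepth 100000 in
set_option maxHeartbeats 0 in
theorem tU33_facts : tU33.transpose * tU33.map (· ^ 3) = 1 ∧ tU33 * (tU33 * tU33) = 1 ∧ tU33 ≠ 1 ∧
    iota zC * tU33 = tU33 * iota zC ∧
    ∃ i j : Fin 3, i ≠ j ∧ (tU33 * iota (1, 0, false) * (tU33 * tU33)) i j ≠ 0 := by
  decide +kernel

set_option maxRecDepth 100000 in
set_option maxHeartbeats 0 in
theorem iota_det : ∀ x : Code, iota x 0 0 * iota x 1 1 * iota x 2 2 - iota x 0 0 * iota x 1 2 * iota x 2 1 -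
    iota x 0 1 * iota x 1 0 * iota x 2 2 + iota x 0 1 * iota x 1 2 * iota x 2 0 +
    iota x 0 2 * iota x 1 0 * iota x 2 1 - iota x 0 2 * iota x 1 1 * iota x 2 0 = 1 := by
  decide +kernel

set_option maxRecDepth 100000 in
set_option maxHeartbeats 0 in
theorem cU33_det : cU33 0 0 * cU33 1 1 * cU33 2 2 - cU33 0 0 * cU33 1 2 * cU33 2 1 -
    cU33 0 1 * cU33 1 0 * cU33 2 2 + cU33 0 1 * cU33 1 2 * cU33 2 0 + cU33 0 2 * cU33 1 0 * cU33 2 1 -
    cU33 0 2 * cU33 1 1 * cU33 2 0 = 1 := by
  decide +kernel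

set_option maxRecDepth 100000 in
set_option maxHeartbeats 0 in
theorem tU33_det : tU33 0 0 * tU33 1 1 * tU33 2 2 - tU33 0 0 * tU33 1 2 * tU33 2 1 -
    tU33 0 1 * tU33 1 0 * tU33 2 2 + tU33 0 1 * tU33 1 2 * tU33 2 0 + tU33 0 2 * tU33 1 0 * tU33 2 1 -
    tU33 0 2 * tU33 1 1 * tU33 2 0 = 1 := by
  decide +kernel

section

variable {F : Type*} [Field F] [Fintype F]

set_option quotPrecheck false in
local notation "G" => ↥(Cfsg.SU 3 F 3)

/-- The matrix of an element. -/
def mat3 : G →* Matrix (Fin 3) (Fin 3) F := (Cfsg.slToMat 3 F).comp (Cfsg.SU 3 F 3).subtype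

omit [Fintype F] in
theorem mat3_injective : Function.Injective (mat3 (F := F)) := fun _ _ h =>
  Subtype.ext (Subtype.ext h)

theorem exists_mat3 (hF : Fintype.card F = 9) (e : K9 ≃+* F) (C : Matrix (Fin 3) (Fin 3) K9)
    (hC : C.det = 1) (hCu : C.transpose * C.map (· ^ 3) = 1) :
    ∃ x : G, mat3 x = e.toRingHom.mapMatrix C := by
  have : CharP F 3 := charP_of_card_eq_prime_pow (f := 2) (hp := ⟨Nat.prime_three⟩) (by simp [hF])
  have : Fact (Nat.Prime 3) := ⟨Nat.prime_three⟩
  refine ⟨⟨⟨e.toRingHom.mapMatrix C, by rw [← RingHom.map_det, hC, map_one]⟩, ?_⟩, rfl⟩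
  intro u v
  have hu' : (e.toRingHom.mapMatrix C).transpose * (e.toRingHom.mapMatrix C).map (· ^ 3) = 1 := by
    have := congrArg e.toRingHom.mapMatrix hCu
    rw [map_mul, map_one] at this
    rw [← this]
    ext i j
    simp [Matrix.mul_apply]
  change Cfsg.hermForm 3 F 3 ((e.toRingHom.mapMatrix C) *ᵥ u) ((e.toRingHom.mapMatrix C) *ᵥ v) = _
  have hconv : ∀ u v : Fin 3 → F, Cfsg.hermForm 3 F 3 u v = u ⬝ᵥ (fun i => v i ^ 3) := fun u v => rfl
  have hfrob : (fun i => ((e.toRingHom.mapMatrix C) *ᵥ v) i ^ 3) =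
      ((e.toRingHom.mapMatrix C).map (· ^ 3)) *ᵥ (fun i => v i ^ 3) := by
    ext i
    simp only [Matrix.mulVec, dotProduct, Fin.sum_univ_three, Matrix.map_apply, add_pow_char, mul_pow]
  rw [hconv, hconv, hfrob, ← Matrix.vecMul_transpose, ← Matrix.dotProduct_mulVec, Matrix.mulVec_mulVec, hu',
    Matrix.one_mulVec]

theorem noType_su33 (hF : Fintype.card F = 9) [Fact (Nat.Prime 2)] : NoType 2 G := by
  classical
  haveI : Fact (Nat.Prime 3) := ⟨Nat.prime_three⟩
  obtain ⟨e⟩ := S3438.exists_equiv hF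
  have hF' : Fintype.card F = 3 ^ 2 := by rw [hF]; norm_num
  haveI := U33.isSimple hF'
  have hcardG : Nat.card G = 6048 := U33.card_G hF'
  obtain ⟨hone, hzc, hz2, hzu, hEs, hE₀, hcE⟩ := code_facts
  obtain ⟨hcu, hc3, hc1, hzc', hcperm⟩ := cU33_facts
  obtain ⟨htu, ht3, ht1, hzt, i₀, j₀, hij, hne⟩ := tU33_facts
  set φ := e.toRingHom.mapMatrix (m := Fin 3)
  have hφ : Function.Injective φ := fun a b h => Matrix.map_injective e.injective h
  have hexL : ∀ x : Code, ∃ g : G, mat3 g = φ (iota x) := fun x =>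
    exists_mat3 hF e _ (by rw [Matrix.det_fin_three]; exact iota_det x) (iota_unitary x)
  choose el helL using hexL
  have hcomm : ∀ {x y : G} {m n : Matrix (Fin 3) (Fin 3) K9}, mat3 x = φ m → mat3 y = φ n →
      (x * y = y * x ↔ m * n = n * m) := by
    intro x y m n hx hy
    rw [← mat3_injective.eq_iff, map_mul, map_mul, hx, hy, ← map_mul, ← map_mul, hφ.eq_iff]
  let S₀ : Submonoid G :=
    { carrier := {g | ∃ x, mat3 g = φ (iota x)}
      one_mem' := ⟨(0, 0, false), by rw [map_one, hone, map_one]⟩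
      mul_mem' := by
        rintro a b ⟨m, ha⟩ ⟨n, hb⟩
        exact ⟨cmul m n, by rw [map_mul, ← iota_mul, map_mul, ha, hb]⟩ }
  let U : Subgroup G :=
    { S₀ with
      inv_mem' := fun {a} ha => by
        obtain ⟨k, hk⟩ := mem_powers_iff_mem_zpowers.2 (inv_mem (Subgroup.mem_zpowers a))
        exact hk ▸ pow_mem (show a ∈ S₀ from ha) k }
  have hU : Nat.card U = 2 ^ 5 := by
    rw [show (2 : ℕ) ^ 5 = Nat.card Code by simp [Nat.card_eq_fintype_card]]
    refine (Nat.card_eq_of_bijective (fun m : Code => (⟨el m, m, helL m⟩ : U)) ⟨fun a b h => ?_, ?_⟩).symm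
    · have := congrArg (fun g : U => mat3 (g : G)) h
      simp only [helL] at this
      exact iota_injective a b (hφ this)
    · rintro ⟨g, m, hg⟩
      exact ⟨m, Subtype.ext (mat3_injective ((helL m).trans hg.symm))⟩
  have hUi : ¬ 2 ∣ U.index := by
    have h := U.card_mul_index
    rw [hU, hcardG] at h
    omega
  set S := (IsPGroup.of_card (n := 5) hU).toSylow hUi
  refine noType_of_sylow S fun A M₀ hctx => ?_
  have hSU : ((S : Sylow 2 G) : Subgroup G) = U := rfl
  set z := el zC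
  have hz : mat3 z = φ (iota zC) := helL _
  have hcommL : ∀ {g k : G} {x y : Code}, mat3 g = φ (iota x) → mat3 k = φ (iota y) →
      (g * k = k * g ↔ cmul x y = cmul y x) := fun hg hk => by
    rw [hcomm hg hk, iota_mul, iota_mul]
    exact ⟨iota_injective _ _, congrArg iota⟩
  set E : Set G := {g | g ∈ U ∧ ∃ y ∈ U, g * g * y ≠ y * (g * g)}
  set D := Subgroup.closure E
  have hE : ∀ {g : G}, g ∈ E ↔ ∃ m, InE m ∧ mat3 g = φ (iota m) := by
    intro g
    have hsq : ∀ {m : Code}, mat3 g = φ (iota m) → mat3 (g * g) = φ (iota (cmul m m)) := fun hg => by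
      rw [map_mul, hg, ← map_mul, iota_mul]
    constructor
    · rintro ⟨⟨m, hg⟩, y, ⟨n, hy⟩, h⟩
      exact ⟨m, ⟨n, fun e' => h ((hcommL (hsq hg) hy).2 e')⟩, hg⟩
    · rintro ⟨m, ⟨n, h⟩, hg⟩
      exact ⟨⟨m, hg⟩, el n, ⟨n, helL n⟩, fun e' => h ((hcommL (hsq hg) (helL n)).1 e')⟩
  obtain ⟨c, hc⟩ := exists_mat3 hF e cU33 (by rw [Matrix.det_fin_three]; exact cU33_det) hcu
  obtain ⟨t, ht⟩ := exists_mat3 hF e tU33 (by rw [Matrix.det_fin_three]; exact tU33_det) htu
  have hord : ∀ {x : G} {m : Matrix (Fin 3) (Fin 3) K9}, mat3 x = φ m → m * (m * m) = 1 → m ≠ 1 →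
      orderOf x = 3 := by
    intro x m hx h3 h1
    refine orderOf_eq_prime (mat3_injective ?_) fun e' => h1 (hφ ?_)
    · rw [map_pow, map_one, hx, ← map_pow, show m ^ 3 = m * (m * m) by rw [pow_succ', pow_two], h3, map_one]
    · rw [← hx, e', map_one, map_one]
  set Y₁ : Subgroup G := Subgroup.centralizer {z}
  set Y₂ : Subgroup G := Subgroup.normalizer (D : Set G)
  have hUY₁ : U ≤ Y₁ := by
    rintro g ⟨m, hg⟩
    exact Subgroup.mem_centralizer_singleton_iff.2 ((hcommL hg hz).2 (hzc m).symm)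
  have hnormE : ∀ g : G, (∀ x ∈ E, g * x * g⁻¹ ∈ D) → g ∈ Y₂ := by
    intro g hg
    have hle : D.map (MulAut.conj g).toMonoidHom ≤ D := by
      rw [MonoidHom.map_closure, Subgroup.closure_le]
      rintro _ ⟨x, hx, rfl⟩
      exact hg x hx
    have heq : D.map (MulAut.conj g).toMonoidHom = D := Subgroup.eq_of_le_of_card_ge hle
      (Subgroup.card_map_of_injective (MulAut.conj g).injective).ge
    refine Subgroup.mem_normalizer_iff.2 fun x => ⟨fun hx => heq.le ⟨x, hx, rfl⟩, fun hx => ?_⟩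
    obtain ⟨y, hy, e'⟩ := heq.ge hx
    rwa [← (MulAut.conj g).injective e']
  have hUY₂ : U ≤ Y₂ := fun g hg => hnormE g fun x ⟨hx, y, hy, hne'⟩ =>
    Subgroup.subset_closure ⟨mul_mem (mul_mem hg hx) (inv_mem hg), g * y * g⁻¹,
      mul_mem (mul_mem hg hy) (inv_mem hg), fun e' => hne' (by
        rw [show g * x * g⁻¹ * (g * x * g⁻¹) * (g * y * g⁻¹) = g * (x * x * y) * g⁻¹ by group,
          show g * y * g⁻¹ * (g * x * g⁻¹ * (g * x * g⁻¹)) = g * (y * (x * x)) * g⁻¹ by group] at e'
        exact mul_left_cancel (mul_right_cancel e'))⟩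
  have hcY₂ : c ∈ Y₂ := hnormE c fun x hx => by
    obtain ⟨⟨a', b', s'⟩, hm, hx'⟩ := hE.1 hx
    obtain rfl : s' = false := hEs _ hm
    have hcinv : c⁻¹ = c * c := inv_eq_of_mul_eq_one_right (mat3_injective (by
      rw [map_mul, map_mul, hc, map_one, ← map_mul, ← map_mul, hc3, map_one]))
    have hx'' : mat3 (c * x * c⁻¹) = φ (iota (cperm (a', b', false))) := by
      rw [hcinv, map_mul, map_mul, map_mul, hx', hc, ← map_mul, ← map_mul, ← map_mul, hcperm]
    obtain ⟨a, ha, hab | ⟨b, hb, hab⟩⟩ := hcE _ hm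
    · exact Subgroup.subset_closure (hE.2 ⟨a, ha, by rw [hx'', hab]⟩)
    rw [show c * x * c⁻¹ = el a * el b from mat3_injective (by
      rw [hx'', map_mul, helL a, helL b, ← map_mul, iota_mul, hab])]
    exact mul_mem (Subgroup.subset_closure (hE.2 ⟨a, ha, helL a⟩))
      (Subgroup.subset_closure (hE.2 ⟨b, hb, helL b⟩))
  have hcY₁ : c ∉ Y₁ := fun h => hzc' ((hcomm hz hc).1 (Subgroup.mem_centralizer_singleton_iff.1 h).symm)
  have htY₁ : t ∈ Y₁ := Subgroup.mem_centralizer_singleton_iff.2 ((hcomm ht hz).2 hzt.symm)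
  have hdiag : ∀ x ∈ D, ∀ i j, i ≠ j → mat3 x i j = 0 := by
    have hd : ∀ x : G, (∀ i j, i ≠ j → mat3 x i j = 0) ↔ mat3 x = Matrix.diagonal fun i => mat3 x i i := by
      intro x
      refine ⟨fun h => Matrix.ext fun i j => ?_, fun h i j hij => ?_⟩
      · by_cases hij : i = j
        · subst hij; rw [Matrix.diagonal_apply_eq]
        · rw [Matrix.diagonal_apply_ne _ hij, h i j hij]
      · rw [h, Matrix.diagonal_apply_ne _ hij]
    intro x hx
    rw [← Subgroup.mem_toSubmonoid, show D.toSubmonoid = Submonoid.closure E from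
      Subgroup.closure_toSubmonoid_of_finite] at hx
    induction hx using Submonoid.closure_induction with
    | mem x hx =>
      obtain ⟨⟨a', b', s'⟩, hm, hx'⟩ := hE.1 hx
      obtain rfl : s' = false := hEs _ hm
      intro i j hij
      rw [hx']
      show e (iota (a', b', false) i j) = 0
      rw [iota_diag a' b' i j hij, map_zero]
    | one => intro i j hij; rw [map_one, Matrix.one_apply_ne hij]
    | mul a b _ _ ha hb =>
      intro i j hij
      rw [map_mul, (hd a).1 ha, (hd b).1 hb, Matrix.diagonal_mul_diagonal, Matrix.diagonal_apply_ne _ hij]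
  have htY₂ : t ∉ Y₂ := by
    intro h
    have h1 := hdiag _ ((Subgroup.mem_normalizer_iff.1 h (el (1, 0, false))).1
      (Subgroup.subset_closure (hE.2 ⟨_, hE₀, helL _⟩))) i₀ j₀ hij
    have htinv : t⁻¹ = t * t := inv_eq_of_mul_eq_one_right (mat3_injective (by
      rw [map_mul, map_mul, ht, map_one, ← map_mul, ← map_mul, ht3, map_one]))
    rw [htinv, map_mul, map_mul, map_mul, ht, helL, ← map_mul, ← map_mul, ← map_mul] at h1
    exact hne (e.injective (h1.trans (map_zero e).symm))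
  have hzG : z ≠ 1 := fun e' => absurd
    (iota_injective zC (0, 0, false) (hφ (by rw [← hz, e', map_one, hone, map_one]))) (by decide)
  have h96 : ∀ {Y : Subgroup G}, U ≤ Y → ∀ {x : G}, x ∈ Y → orderOf x = 3 → 96 ∣ Nat.card Y := by
    intro Y hY x hx h3
    have d3 : 3 ∣ Nat.card Y := by
      have := orderOf_dvd_natCard (⟨x, hx⟩ : Y)
      rwa [Subgroup.orderOf_mk, h3] at this
    have d32 := Subgroup.card_dvd_of_le hY
    rw [hU] at d32
    exact (show Nat.Coprime 32 3 by norm_num).mul_dvd_of_dvd_of_dvd d32 d3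
  have hmax : ∀ {Y : Subgroup G}, Y ≠ ⊤ → 96 ∣ Nat.card Y → Nat.card Y = 96 := by
    intro Y hY h
    obtain ⟨k, hk⟩ := h
    have hi := Y.card_mul_index
    have hidx := MinIndexU3.psu_index_bound hF' le_rfl (Y.map (QuotientGroup.mk' (Subgroup.center G)))
      fun e' => hY (Subgroup.map_injective (U33.mk_bijective hF').1 (by
        rw [e', Subgroup.map_top_of_surjective _ (U33.mk_bijective hF').2]))
    rw [Subgroup.index_map_of_bijective (U33.mk_bijective hF')] at hidx
    rw [hk, hcardG] at hi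
    have h28 : 28 ≤ Y.index := by omega
    rcases Nat.lt_or_ge k 3 with hk3 | hk3
    · interval_cases k <;> omega
    · have : 96 * 3 * 28 ≤ 96 * k * Y.index := by gcongr
      omega
  have ht₁ : orderOf t = 3 := hord ht ht3 ht1
  have hc₁ : orderOf c = 3 := hord hc hc3 hc1
  have hY₁t : Y₁ ≠ ⊤ := fun h => hcY₁ (h ▸ Subgroup.mem_top _)
  have hY₂t : Y₂ ≠ ⊤ := fun h => htY₂ (h ▸ Subgroup.mem_top _)
  refine hctx.false_of_two (hSU.le.trans hUY₁) (hSU.le.trans hUY₂) hY₁t hY₂t (fun a ha y hy => ?_)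
    (fun a ha y hy => ?_) fun Y h₁ h₂ => ?_
  · -- the central involution is fixed
    have hUa : ∀ u ∈ U, ∃ v ∈ U, a v = u := fun u hu => by
      have := (hctx.map_U ha).ge (show u ∈ ((S : Sylow 2 G) : Subgroup G) from hu)
      exact this
    have hza : a z = z := by
      obtain ⟨m, hmz⟩ := hctx.fixU a ha z ⟨zC, hz⟩
      suffices m = zC by exact mat3_injective (by rw [hmz, hz, this])
      by_contra hne'
      have hm1 : m ≠ (0, 0, false) := fun e' => hzG (a.injective (mat3_injective (by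
        rw [hmz, e', hone, map_one, map_one, map_one])))
      have hzz : z * z = 1 := mat3_injective (by rw [map_mul, hz, ← map_mul, iota_mul, hz2, hone, map_one, map_one])
      have hm2 : cmul m m = (0, 0, false) := iota_injective _ _ (hφ (by
        rw [← iota_mul, map_mul, ← hmz, ← map_mul, ← map_mul, hzz, map_one, map_one, hone, map_one]))
      obtain ⟨n, hmn⟩ := hzu m hm2 hm1 hne'
      obtain ⟨v, ⟨k, hkv⟩, hv⟩ := hUa (el n) ⟨n, helL n⟩
      refine hmn ((hcommL hmz (helL n)).1 ?_)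
      rw [← hv, ← map_mul, ← map_mul, (hcommL hz hkv).2 (hzc k)]
    refine Subgroup.mem_centralizer_singleton_iff.2 ?_
    conv_lhs => rw [← hza]
    conv_rhs => rw [← hza]
    rw [← map_mul, ← map_mul, Subgroup.mem_centralizer_singleton_iff.1 hy]
  · -- the set of elements with noncentral square is preserved
    have hEa : ∀ x ∈ E, a x ∈ E := by
      rintro x ⟨hx, w, hw, hne'⟩
      exact ⟨hctx.fixU a ha x hx, a w, hctx.fixU a ha w hw, fun e' => hne' (a.injective (by
        rw [map_mul, map_mul, map_mul, map_mul]; exact e'))⟩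
    have heq : D.map a.toMonoidHom = D := by
      refine Subgroup.eq_of_le_of_card_ge ?_ (Subgroup.card_map_of_injective (f := a.toMonoidHom) a.injective).ge
      rw [MonoidHom.map_closure, Subgroup.closure_le]
      rintro _ ⟨x, hx, rfl⟩
      exact Subgroup.subset_closure (hEa x hx)
    refine hnormE _ fun x hx => ?_
    obtain ⟨x', hx', rfl⟩ := heq.ge (Subgroup.subset_closure hx : x ∈ D)
    show a y * a x' * (a y)⁻¹ ∈ D
    rw [← map_mul, ← map_inv, ← map_mul]
    exact heq.le ⟨_, (Subgroup.mem_normalizer_iff.1 hy x').1 hx', rfl⟩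
  · by_contra hY
    have e1 := hmax hY₁t (h96 hUY₁ htY₁ ht₁)
    have e2 := hmax hY₂t (h96 hUY₂ hcY₂ hc₁)
    have e3 := hmax hY (h96 (hUY₁.trans h₁) (h₁ htY₁) ht₁)
    exact hcY₁ ((Subgroup.eq_of_le_of_card_ge h₁ (by omega)).ge
      ((Subgroup.eq_of_le_of_card_ge h₂ (by omega)).le hcY₂))

theorem noType_psu33 (hF : Fintype.card F = 9) [Fact (Nat.Prime 2)] : NoType 2 (Cfsg.PSU 3 F 3) :=
  (noType_su33 hF).of_equiv
    (MulEquiv.ofBijective _ (U33.mk_bijective (F := F) (by rw [hF]; norm_num))).symm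

end

end Cfsg.Agent.PMinLie
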