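import Cfsg.Prelude.Def_AlmostLie
import Cfsg.Agent.Lib.PMinLie.Reduce
import Cfsg.Agent.Lib.PMinLie.Classical
import Cfsg.Agent.Lib.PMinLie.Linear
import Cfsg.Agent.Lib.PMinLie.Exceptional
import Cfsg.Agent.Lib.PMinLie.RankOne
import Cfsg.Agent.Lib.PMinLie.AltSix
import Cfsg.Agent.Lib.PMinLie.U33
import Cfsg.Agent.Lib.PMinLie.Tits
import Cfsg.Agent.Lib.PMinLie.PSLEight
import Cfsg.Agent.Lib.FullOver.Main
import Cfsg.Agent.S1054
import Cfsg.Agent.S1055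

/-!
The case division for `p`-minimal groups with socle of Lie type in the characteristic.
-/

set_option autoImplicit false

namespace Cfsg.Agent.PMinLie

open Cfsg

variable {K : Type*} [Group K] {p : ℕ} [Fact p.Prime]

/-- The exceptional groups of rank two for the prime two. -/
def TwoList (K : Type*) [Group K] : Prop :=
  (∃ (F : Type) (_ : Field F) (_ : Fintype F) (_ : CharP F 2),
      Nonempty (K ≃* Matrix.ProjectiveSpecialLinearGroup (Fin 3) F)) ∨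
    (∃ (F : Type) (_ : Field F) (_ : Fintype F) (_ : CharP F 2),
      4 ≤ Fintype.card F ∧ Nonempty (K ≃* Cfsg.PSp 2 F)) ∨
    Nonempty (K ≃* alternatingGroup (Fin 6))

theorem isSimpleGroup_lieType (h : Cfsg.IsLieTypeChar p K) : IsSimpleGroup K := by
  classical
  have key : ∀ {H : Type} [Group H], IsSimpleGroup H → (K ≃* H) → IsSimpleGroup K := fun {_} _ hs e => by
    haveI := hs
    exact ClassicalSimple.isSimpleGroup_of_equiv e
  rcases h with h | h | h | h | h | h | h | h | h | h | h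
  · obtain ⟨F, _, _, _, n, hn, h4, ⟨e⟩⟩ := h
    rcases hn.eq_or_lt with rfl | h3
    · exact key (PSL2.psl_isSimpleGroup (F := F) (h4 rfl)) e
    · exact key (S0249.result n h3) e
  · obtain ⟨F, _, _, _, m, hm, h3, ⟨e⟩⟩ := h
    exact key (S0270.result m hm h3) e
  · obtain ⟨F, _, _, _, n, q, hF, hn, h32, ⟨e⟩⟩ := h
    exact key (ClassicalSimple.PSU_isSimpleGroup hF hn h32) e
  · obtain ⟨F, _, _, _, m, hm, hodd, ⟨e⟩⟩ := h
    exact key (S0295.result hodd m hm) e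
  · obtain ⟨F, _, _, _, m, hm, ⟨e⟩⟩ := h
    exact key (S0296.result (F := F) m hm) e
  · obtain ⟨F, _, _, _, m, a, b, hm, hab, ⟨e⟩⟩ := h
    exact key (S0297.result (F := F) m hm a b hab) e
  · obtain ⟨F, _, _, _, h⟩ := h
    rcases h with ⟨h3, ⟨e⟩⟩ | ⟨⟨e⟩⟩ | ⟨⟨e⟩⟩ | ⟨⟨e⟩⟩ | ⟨⟨e⟩⟩
    · obtain ⟨a, ha0, ha1⟩ : ∃ a : F, a ≠ 0 ∧ a ≠ 1 := by
        obtain ⟨a, -, ha⟩ := Finset.exists_mem_notMem_of_card_lt_card (s := ({0, 1} : Finset F))
          (t := Finset.univ) (Finset.card_le_two.trans_lt (by rw [Finset.card_univ]; omega))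
        simp only [Finset.mem_insert, Finset.mem_singleton, not_or] at ha
        exact ⟨a, ha⟩
      exact key (S1055.result (F := F) ⟨a, ha0, ha1⟩).1 e
    all_goals exact key (S1054.result (F := F) _ (by simp)).1 e
  · obtain ⟨F, _, _, _, q, hq, ⟨hF, ⟨e⟩⟩ | ⟨hF, ⟨e⟩⟩⟩ := h
    · obtain ⟨φ, -, hGt, hinv, -⟩ := Chev.BNSetup.exists_frob2 hq hF
      have hs := Chev.BNSetup.isSimpleGroup_twistedE6 hq hF hinv
      rw [hGt] at hs
      exact key hs.1 e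
    · obtain ⟨φ, -, hGt, hinv, -⟩ := Chev.BNSetup.exists_frob3 hq hF
      have hs := Chev.BNSetup.isSimpleGroup_twistedD4 hq hF hinv
      rw [hGt] at hs
      exact key hs.1 e
  · obtain ⟨rfl, F, _, _, m, hm, hF, ⟨e⟩⟩ := h
    exact key (SZ.isSimple hm hF) (e.trans (SZ.szEquiv hm hF).symm)
  · obtain ⟨rfl, F, _, _, m, hm, hF, ⟨e⟩⟩ := h
    have := Twisted.F4.charP_two hF
    exact key (Twisted.F4.simple hF hm).1 e
  · obtain ⟨rfl, F, _, _, m, hm, hF, ⟨e⟩⟩ := h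
    have := Twisted.Ree.charP_three hF
    exact key (Twisted.Ree.isSimpleGroup_G1 hF hm) e

theorem isSimpleGroup_equiv {H : Type*} [Group H] (hs : IsSimpleGroup H) (e : K ≃* H) : IsSimpleGroup K :=
  @ClassicalSimple.isSimpleGroup_of_equiv _ _ _ _ e hs

theorem isSimpleGroup_tits : IsSimpleGroup Lie.TitsGroup := by
  have hK : Fintype.card (ZMod 2) = 2 ^ (2 * 0 + 1) := by simp
  exact (Twisted.Tits.simple_commutator hK).1

theorem isSimpleGroup_chevSimple (h : Cfsg.IsChevSimple p K) : IsSimpleGroup K := by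
  classical
  rcases h with h | ⟨-, h⟩ | ⟨-, F, _, _, hF, ⟨e⟩⟩
  · exact isSimpleGroup_lieType h
  · rcases h with ⟨⟨e⟩⟩ | ⟨F, _, _, hF, ⟨e⟩⟩ | ⟨⟨e⟩⟩
    · have := alternatingGroup.isSimpleGroup (α := Fin 6) (by simp)
      exact ClassicalSimple.isSimpleGroup_of_equiv e
    · have := ClassicalSimple.PSU_isSimpleGroup (q := 3) (F := F) (by rw [hF]; norm_num) (n := 3) le_rfl
        (by norm_num)
      exact ClassicalSimple.isSimpleGroup_of_equiv e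
    · exact isSimpleGroup_equiv isSimpleGroup_tits e
  · have := PSL2.psl_isSimpleGroup (F := F) (by omega)
    exact ClassicalSimple.isSimpleGroup_of_equiv e

/-- The three behaviours. -/
def Cases (p : ℕ) (K : Type*) [Group K] : Prop :=
  (Cfsg.IsLieRankOneChar p K ∧ OneType p K) ∨ (TwoType p K ∧ (p = 2 → TwoList K)) ∨ NoType p K

theorem cases_lieType [Finite K] (h : Cfsg.IsLieTypeChar p K) : Cases p K := by
  classical
  rcases h with h | h | h | h | h | h | h | h | h | h | h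
  · obtain ⟨F, iF, iT, iC, n, hn, h4, ⟨e⟩⟩ := h
    rcases Nat.lt_or_ge n 4 with h' | h'
    · interval_cases n
      · exact Or.inl ⟨Or.inl ⟨F, iF, iT, iC, h4 rfl, ⟨e⟩⟩, (oneType_psl_two (h4 rfl)).of_equiv e⟩
      · refine Or.inr (Or.inl ⟨(twoType_psl_three (F := F)).of_equiv e, ?_⟩)
        rintro rfl
        exact Or.inl ⟨F, iF, iT, iC, ⟨e⟩⟩
    · exact Or.inr (Or.inr ((noType_psl (F := F) h').of_equiv e))
  · obtain ⟨F, iF, iT, iC, m, hm, h3, ⟨e⟩⟩ := h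
    by_cases h4 : m = 2 ∧ p = 2
    · obtain ⟨rfl, rfl⟩ := h4
      have hq : 4 ≤ Fintype.card F := by
        have h2 : 2 ∣ Fintype.card F :=
          (CharP.cast_eq_zero_iff F 2 _).1 (FiniteField.cast_card_eq_zero F)
        have := h3 rfl
        omega
      exact Or.inr (Or.inl ⟨(twoType_psp_two hq).of_equiv e,
        fun _ => Or.inr (Or.inl ⟨F, iF, iT, iC, hq, ⟨e⟩⟩)⟩)
    · exact Or.inr (Or.inr ((noType_psp hm fun h h' => h4 ⟨h, h'⟩).of_equiv e))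
  · obtain ⟨F, iF, iT, iC, n, q, hF, hn, h32, ⟨e⟩⟩ := h
    rcases hn.eq_or_lt with rfl | h4
    · have hq : q ≠ 2 := fun h => h32 ⟨rfl, h⟩
      exact Or.inl ⟨Or.inr (Or.inl ⟨F, iF, iT, iC, q, hF, hq, ⟨e⟩⟩),
        (oneType_psu_three hF hq).of_equiv e⟩
    · exact Or.inr (Or.inr ((noType_psu hF h4).of_equiv e))
  · obtain ⟨F, _, _, _, m, hm, hodd, ⟨e⟩⟩ := h
    exact Or.inr (Or.inr ((noType_pomega_odd hm hodd).of_equiv e))
  · obtain ⟨F, _, _, _, m, hm, ⟨e⟩⟩ := h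
    exact Or.inr (Or.inr ((noType_pomega_plus hm).of_equiv e))
  · obtain ⟨F, _, _, _, m, a, b, hm, hab, ⟨e⟩⟩ := h
    exact Or.inr (Or.inr ((noType_pomega_minus hm hab).of_equiv e))
  · obtain ⟨F, _, _, _, h⟩ := h
    rcases h with ⟨-, ⟨e⟩⟩ | ⟨⟨e⟩⟩ | ⟨⟨e⟩⟩ | ⟨⟨e⟩⟩ | ⟨⟨e⟩⟩
    · by_cases h3 : p = 3
      · exact Or.inr (Or.inl ⟨(twoType_chev Chev.G2.good (by simp) (by decide +kernel)).of_equiv e,
          fun h2 => by omega⟩)
      · exact Or.inr (Or.inr ((noType_G2 h3).of_equiv e))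
    · exact Or.inr (Or.inr (noType_F4.of_equiv e))
    · exact Or.inr (Or.inr (noType_E6.of_equiv e))
    · exact Or.inr (Or.inr (noType_E7.of_equiv e))
    · exact Or.inr (Or.inr (noType_E8.of_equiv e))
  · obtain ⟨F, _, _, _, q, hq, ⟨hF, ⟨e⟩⟩ | ⟨hF, ⟨e⟩⟩⟩ := h
    · exact Or.inr (Or.inr ((noType_twistedE6 hq hF).of_equiv e))
    · exact Or.inr (Or.inr ((noType_twistedD4 hq hF).of_equiv e))
  · obtain ⟨rfl, h⟩ := h
    obtain ⟨F, _, _, m, hm, hF, ⟨e⟩⟩ := id h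
    exact Or.inl ⟨Or.inr (Or.inr (Or.inl ⟨rfl, h⟩)),
      (oneType_sz hm hF).of_equiv (e.trans (SZ.szEquiv hm hF).symm)⟩
  · obtain ⟨rfl, F, _, _, m, hm, hF, ⟨e⟩⟩ := h
    have := Twisted.F4.charP_two hF
    exact Or.inr (Or.inr ((noType_twistedF4 hF).of_equiv e))
  · obtain ⟨rfl, h⟩ := h
    obtain ⟨F, _, _, m, hm, hF, ⟨e⟩⟩ := id h
    have := Twisted.Ree.charP_three hF
    exact Or.inl ⟨Or.inr (Or.inr (Or.inr ⟨rfl, Or.inl h⟩)), (oneType_ree hm hF).of_equiv e⟩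

theorem cases_chevSimple [Finite K] (h : Cfsg.IsChevSimple p K) : Cases p K := by
  classical
  rcases h with h | ⟨rfl, h⟩ | ⟨rfl, F, iF, iT, hF, ⟨e⟩⟩
  · exact cases_lieType h
  · rcases h with ⟨⟨e⟩⟩ | ⟨F, _, _, hF, ⟨e⟩⟩ | ⟨⟨e⟩⟩
    · exact Or.inr (Or.inl ⟨twoType_alt6.of_equiv e, fun _ => Or.inr (Or.inr ⟨e⟩)⟩)
    · exact Or.inr (Or.inr ((noType_psu33 hF).of_equiv e))
    · exact Or.inr (Or.inr (noType_tits.of_equiv e))
  · exact Or.inl ⟨Or.inr (Or.inr (Or.inr ⟨rfl, Or.inr ⟨F, iF, iT, hF, ⟨e⟩⟩⟩)),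
      (oneType_psl28 hF).of_equiv e⟩

theorem main {X : Type*} [Group X] [Finite X] (hX : Cfsg.IsPMinimal p X) (K : Subgroup X) [K.Normal]
    (hK : Cfsg.IsChevSimple p K) (U : Sylow p K) :
    IsCoatom (Subgroup.normalizer (((U : Subgroup K).map K.subtype : Subgroup X) : Set X)) ∧
      (Cfsg.IsLieRankOneChar p K ∨ (p = 2 ∧ K ≠ ⊤ ∧ TwoList K)) := by
  have := isSimpleGroup_chevSimple hK
  obtain ⟨hf, hz⟩ := FullOver.fullSimple_of_chevSimple hK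
  obtain ⟨A, M₀, hctx, hmax, hout⟩ := exists_ctx hX K U (not_normal_sylow hf hz U)
  rcases cases_chevSimple hK with ⟨h1, h2⟩ | ⟨h1, h2⟩ | h
  · exact ⟨hmax (h2 _ _ _ hctx), Or.inl h1⟩
  · obtain ⟨a, b, c⟩ := h1 _ _ _ hctx
    exact ⟨hmax a, Or.inr ⟨b, hout c, h2 b⟩⟩
  · exact absurd hctx (h _ _ _)

end Cfsg.Agent.PMinLie
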